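import Cfsg.Agent.H376.SpEmb
import Cfsg.Agent.H376.Odd8Sp
import Cfsg.Agent.H376.WordEmb
import Mathlib

/-!
# Cocliques in the prime graph: general lemmas, `PSL_n(q)` and `PSp_{2m}(q)`

`IsCoc G C`: `C` is a finite set of primes dividing `|G|`, pairwise non-adjacent in the prime graph.
-/

set_option autoImplicit false

namespace Cfsg.Agent.H376.Coc

open Matrix

/-- `C` is a coclique of the prime graph of `G` -/
structure IsCoc (G : Type*) [Group G] (C : Finset ℕ) : Prop where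
  prime : ∀ p ∈ C, p.Prime
  dvd : ∀ p ∈ C, p ∣ Nat.card G
  indep : ∀ p ∈ C, ∀ q ∈ C, p ≠ q → ¬ ∃ g : G, orderOf g = p * q

theorem IsCoc.subset {G : Type*} [Group G] {C D : Finset ℕ} (h : IsCoc G C) (hD : D ⊆ C) : IsCoc G D :=
  ⟨fun p hp => h.prime p (hD hp), fun p hp => h.dvd p (hD hp),
    fun p hp q hq => h.indep p (hD hp) q (hD hq)⟩

theorem IsCoc.congr {G H : Type*} [Group G] [Group H] (e : G ≃* H) {C : Finset ℕ} (h : IsCoc G C) :
    IsCoc H C :=
  ⟨h.prime, fun p hp => by rw [← Nat.card_congr e.toEquiv]; exact h.dvd p hp,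
    fun p hp q hq hne ⟨g, hg⟩ => h.indep p hp q hq hne
      ⟨e.symm g, by rw [← hg]; exact orderOf_injective e.symm.toMonoidHom e.symm.injective g⟩⟩

/-- counting lemma -/
theorem card_le_of_inj {C T : Finset ℕ} {x : ℕ} (f : ℕ → ℕ)
    (hf : ∀ s ∈ C, s ≠ x → f s ∈ T) (hinj : ∀ s ∈ C, s ≠ x → ∀ t ∈ C, t ≠ x → f s = f t → s = t) :
    C.card ≤ 1 + T.card := by
  classical
  have h1 : (C.erase x).card ≤ T.card := by
    apply Finset.card_le_card_of_injOn f
    · intro s hs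
      rw [Finset.mem_coe, Finset.mem_erase] at hs
      exact hf s hs.2 hs.1
    · intro s hs t ht h
      rw [Finset.mem_coe, Finset.mem_erase] at hs ht
      exact hinj s hs.2 hs.1 t ht.2 ht.1 h
  have h2 := Finset.pred_card_le_card_erase (s := C) (a := x)
  omega

theorem orderOf_mk_of {H : Type*} [Group H] (Z : Subgroup H) [Z.Normal] (y : H)
    (h : ∀ k : ℕ, y ^ k ∈ Z → y ^ k = 1) : orderOf (QuotientGroup.mk y : H ⧸ Z) = orderOf y := by
  apply Nat.dvd_antisymm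
  · exact orderOf_map_dvd (QuotientGroup.mk' Z) y
  · apply orderOf_dvd_of_pow_eq_one
    apply h
    rw [← QuotientGroup.eq_one_iff, QuotientGroup.mk_pow, pow_orderOf_eq_one]

/-! ### orders of `q` modulo primes -/

theorem cop_card {F : Type*} [Field F] [Fintype F] {p : ℕ} [Fact p.Prime] [CharP F p] {r : ℕ}
    (hr : r.Prime) (h : r ≠ p) : Nat.Coprime (Fintype.card F) r := by
  obtain ⟨m, hp, hm⟩ := FiniteField.card F p
  rw [hm]
  exact Nat.Coprime.pow_left _ ((Nat.coprime_primes hp hr).2 (Ne.symm h))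

theorem ord_pos {q s : ℕ} (hs : s.Prime) (hqs : Nat.Coprime q s) :
    0 < orderOf ((q : ℕ) : ZMod s) := by
  have := Fact.mk hs
  rw [← ZMod.coe_unitOfCoprime _ hqs, orderOf_units]
  exact orderOf_pos _

theorem ord_dvd_iff {q s d : ℕ} (hq : 1 ≤ q) :
    orderOf ((q : ℕ) : ZMod s) ∣ d ↔ s ∣ q ^ d - 1 := by
  have h3 : 1 ≤ q ^ d := Nat.one_le_pow _ _ hq
  rw [orderOf_dvd_iff_pow_eq_one, ← ZMod.natCast_eq_zero_iff, Nat.cast_sub h3, Nat.cast_pow,
    Nat.cast_one, sub_eq_zero]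

/-! ### `SL_n` -/

section SL

variable {F : Type*} [Field F]

theorem submatrix_eq_smul_one {m n : Type*} [DecidableEq m] [DecidableEq n] (e : m ≃ n)
    {M : Matrix m m F} {r : F} (h : M.submatrix e.symm e.symm = r • (1 : Matrix n n F)) :
    M = r • (1 : Matrix m m F) := by
  ext i j
  have h1 := congrFun (congrFun h (e i)) (e j)
  rw [Matrix.submatrix_apply, Equiv.symm_apply_apply, Equiv.symm_apply_apply] at h1
  rw [h1, Matrix.smul_apply, Matrix.smul_apply, Matrix.one_apply, Matrix.one_apply]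
  simp only [e.injective.eq_iff]

theorem fromBlocks_eq_smul_one {m n : Type*} [DecidableEq m] [DecidableEq n]
    {A : Matrix m m F} {B : Matrix n n F} {r : F} (h : fromBlocks A 0 0 B = r • 1) :
    A = r • 1 ∧ B = r • 1 := by
  rw [← Matrix.fromBlocks_one, Matrix.fromBlocks_smul] at h
  have h1 := Matrix.fromBlocks_inj.1 h
  exact ⟨h1.1, h1.2.2.2⟩

/-- `SL_a × SL_b → SL_{a+b}` -/
def blk2 (a b : ℕ) : Matrix.SpecialLinearGroup (Fin a) F ×
    Matrix.SpecialLinearGroup (Fin b) F →* Matrix.SpecialLinearGroup (Fin a ⊕ Fin b) F where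
  toFun A := ⟨Matrix.fromBlocks A.1.1 0 0 A.2.1, by
    rw [Matrix.det_fromBlocks_zero₂₁, A.1.2, A.2.2, mul_one]⟩
  map_one' := by
    apply Subtype.ext
    change Matrix.fromBlocks (1 : Matrix (Fin a) (Fin a) F) 0 0 1 = 1
    exact Matrix.fromBlocks_one
  map_mul' A B := by
    apply Subtype.ext
    change Matrix.fromBlocks (A.1.1 * B.1.1) 0 0 (A.2.1 * B.2.1) =
      Matrix.fromBlocks A.1.1 0 0 A.2.1 * Matrix.fromBlocks B.1.1 0 0 B.2.1
    rw [Matrix.fromBlocks_multiply]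
    simp

theorem blk2_injective (a b : ℕ) : Function.Injective (blk2 (F := F) a b) := by
  intro A B h
  have h2 := Matrix.fromBlocks_inj.1 (congrArg Subtype.val h)
  exact Prod.ext (Subtype.ext h2.1) (Subtype.ext h2.2.2.2)

theorem exists_phi₀ {a b n : ℕ} (h : a + b = n) :
    ∃ φ : Matrix.SpecialLinearGroup (Fin a) F × Matrix.SpecialLinearGroup (Fin b) F →*
      Matrix.SpecialLinearGroup (Fin n) F, Function.Injective φ ∧
      ∀ x (r : F), (φ x).1 = r • 1 → x.1.1 = r • 1 ∧ x.2.1 = r • 1 := by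
  subst h
  refine ⟨(WordEmb.reidx finSumFinEquiv).comp (blk2 a b),
    (WordEmb.reidx_injective _).comp (blk2_injective a b), ?_⟩
  intro x r hx
  exact fromBlocks_eq_smul_one (submatrix_eq_smul_one finSumFinEquiv hx)

/-- **Blocks in `SL_n`** -/
theorem exists_phi {a b n : ℕ} (h : a + b ≤ n) :
    ∃ φ : Matrix.SpecialLinearGroup (Fin a) F × Matrix.SpecialLinearGroup (Fin b) F →*
      Matrix.SpecialLinearGroup (Fin n) F, Function.Injective φ ∧
      ∀ x (r : F), (φ x).1 = r • 1 → x.1.1 = r • 1 ∧ x.2.1 = r • 1 := by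
  obtain ⟨φ, hφ, h1⟩ := exists_phi₀ (F := F) (rfl : a + b = a + b)
  obtain ⟨ψ, hψ, h2⟩ := exists_phi₀ (F := F) (show (a + b) + (n - (a + b)) = n by omega)
  refine ⟨ψ.comp ((MonoidHom.inl _ _).comp φ), ?_, ?_⟩
  · intro x y hxy
    exact hφ (congrArg Prod.fst (hψ hxy))
  intro x r hx
  exact h1 x r (h2 _ r hx).1

theorem center_scalar {n : ℕ} {x : Matrix.SpecialLinearGroup (Fin n) F}
    (hx : x ∈ Subgroup.center (Matrix.SpecialLinearGroup (Fin n) F)) : ∃ r : F, x.1 = r • 1 := by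
  rw [Matrix.SpecialLinearGroup.mem_center_iff] at hx
  obtain ⟨r, _, hx⟩ := hx
  refine ⟨r, ?_⟩
  rw [← hx]
  exact (Matrix.smul_one_eq_diagonal r).symm

/-- **Adjacency by blocks in `PSL_n`** -/
theorem psl_adj [Finite F] {a b n x s : ℕ} (h : a + b ≤ n) (ha : a ≠ 0) (hb : b ≠ 0)
    (hx : x.Prime) (hs : s.Prime) (hxs : x ≠ s)
    (hxa : x ∣ Nat.card (Matrix.SpecialLinearGroup (Fin a) F))
    (hsb : s ∣ Nat.card (Matrix.SpecialLinearGroup (Fin b) F)) :
    ∃ g : Matrix.ProjectiveSpecialLinearGroup (Fin n) F, orderOf g = x * s := by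
  have := Fact.mk hx
  have := Fact.mk hs
  obtain ⟨A, hA⟩ := exists_prime_orderOf_dvd_card' x hxa
  obtain ⟨B, hB⟩ := exists_prime_orderOf_dvd_card' s hsb
  obtain ⟨φ, hφ, h1⟩ := exists_phi (F := F) h
  have hcop : Nat.Coprime x s := (Nat.coprime_primes hx hs).2 hxs
  have hord : orderOf (φ (A, B)) = x * s := by
    rw [orderOf_injective _ hφ, Prod.orderOf_mk, hA, hB, hcop.lcm_eq_mul]
  refine ⟨QuotientGroup.mk (φ (A, B)), ?_⟩
  rw [orderOf_mk_of, hord]
  intro k hk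
  obtain ⟨r, hr⟩ := center_scalar hk
  rw [← map_pow] at hr
  obtain ⟨h2, h3⟩ := h1 _ r hr
  have h2' : (A ^ k).1 = r • 1 := h2
  have h3' : (B ^ k).1 = r • 1 := h3
  have key : ∀ (d t : ℕ) (hd : d ≠ 0) (M : Matrix.SpecialLinearGroup (Fin d) F), orderOf M = t →
      (M ^ k).1 = r • 1 → r ^ t = 1 := by
    intro d t hd M hM hMk
    have h4 : ((M ^ k) ^ t).1 = 1 := by
      rw [← pow_mul, mul_comm, pow_mul, ← hM, pow_orderOf_eq_one, one_pow]
      rfl
    rw [Matrix.SpecialLinearGroup.coe_pow, hMk, smul_pow, one_pow] at h4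
    have h5 := congrFun (congrFun h4 ⟨0, Nat.pos_of_ne_zero hd⟩) ⟨0, Nat.pos_of_ne_zero hd⟩
    simpa using h5
  have h6 := key a x ha A hA h2'
  have h7 := key b s hb B hB h3'
  have hr1 : r = 1 := by
    have h8 : orderOf r ∣ Nat.gcd x s :=
      Nat.dvd_gcd (orderOf_dvd_of_pow_eq_one h6) (orderOf_dvd_of_pow_eq_one h7)
    rw [hcop] at h8
    exact orderOf_eq_one_iff.1 (Nat.dvd_one.1 h8)
  rw [← map_pow]
  have h9 : ((A, B) : Matrix.SpecialLinearGroup (Fin a) F × Matrix.SpecialLinearGroup (Fin b) F) ^ k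
      = 1 := by
    rw [hr1, one_smul] at h2' h3'
    exact Prod.ext (Subtype.ext h2') (Subtype.ext h3')
  rw [h9, map_one]

end SL

end Cfsg.Agent.H376.Coc
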