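import Cfsg.Agent.H376.PrimeOrd
import Mathlib

/-!
# Eigenvalues of symplectic matrices of order `r * s`
-/

set_option autoImplicit false

namespace Cfsg.Agent.H376.SpOrbit

open Matrix Module

/-! ### Eigenvalues -/

/-- `X ^ s` has order `r` prime to the characteristic: `X` has an eigenvalue `a` with `a ^ s ≠ 1`. -/
theorem exists_eigen {L V : Type*} [Field L] [IsAlgClosed L] [AddCommGroup V] [Module L V]
    [FiniteDimensional L V] (X : Module.End L V) {r s : ℕ} (hr : (r : L) ≠ 0)
    (h1 : (X ^ s) ^ r = 1) (h2 : X ^ s ≠ 1) : ∃ a : L, X.HasEigenvalue a ∧ a ^ s ≠ 1 := by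
  have hU := PrimeOrd.range_ne_bot h2
  have hinv : ∀ u ∈ LinearMap.range (X ^ s - 1), X u ∈ LinearMap.range (X ^ s - 1) :=
    PrimeOrd.range_mem (A := X ^ s) (B := X) (by rw [← pow_succ, ← pow_succ'])
  haveI : Nontrivial (LinearMap.range (X ^ s - 1)) := Submodule.nontrivial_iff_ne_bot.2 hU
  obtain ⟨a, ha⟩ := Module.End.exists_eigenvalue (X.restrict hinv)
  obtain ⟨⟨v, hv⟩, hv1⟩ := ha.exists_hasEigenvector
  have hv2 : X v = a • v := by
    have := hv1.apply_eq_smul
    exact congrArg Subtype.val this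
  have hv0 : v ≠ 0 := by
    intro h
    apply hv1.2
    exact Subtype.ext h
  refine ⟨a, Module.End.hasEigenvalue_of_hasEigenvector (x := v)
    ⟨Module.End.mem_eigenspace_iff.2 hv2, hv0⟩, ?_⟩
  intro has
  have h3 : ∀ i : ℕ, (X ^ i) v = a ^ i • v := by
    intro i
    induction i with
    | zero => simp
    | succ i ih => rw [pow_succ', Module.End.mul_apply, ih, map_smul, hv2, smul_smul, pow_succ]
  have h4 : (X ^ s) v = v := by rw [h3, has, one_smul]
  have h5 : v ∈ LinearMap.ker (X ^ s - 1) ⊓ LinearMap.range (X ^ s - 1) := by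
    refine ⟨?_, hv⟩
    rw [SetLike.mem_coe, LinearMap.mem_ker, LinearMap.sub_apply, h4]
    simp
  rw [PrimeOrd.ker_inf_range h1 hr] at h5
  exact hv0 ((Submodule.mem_bot _).1 h5)

/-- **The eigenvalues of a matrix `X` of order `r * s` over a finite field, similar to `X⁻¹`.** -/
theorem exists_roots.{u} {F : Type u} [Field F] [Fintype F] {ι : Type*} [Fintype ι] [DecidableEq ι]
    (X : Matrix ι ι F) (hX : X.charpoly = X⁻¹.charpoly) {r s : ℕ} (hr : (r : F) ≠ 0)
    (hs : (s : F) ≠ 0) (h1 : X ^ (r * s) = 1) (h2 : X ^ s ≠ 1) (h3 : X ^ r ≠ 1) :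
    ∃ (L : Type u) (_ : Field L) (R : Finset L), R.card ≤ Fintype.card ι ∧
      (∀ x ∈ R, x ^ Fintype.card F ∈ R) ∧ (∀ x ∈ R, x⁻¹ ∈ R) ∧ (∀ x ∈ R, x ^ (r * s) = 1) ∧
      (∃ a ∈ R, a ^ s ≠ 1) ∧ (∃ b ∈ R, b ^ r ≠ 1) := by
  classical
  let L := AlgebraicClosure F
  let f : F →+* L := algebraMap F L
  have hf : Function.Injective f := f.injective
  let Y : Matrix ι ι L := X.map f
  have hY : ∀ i : ℕ, Y ^ i = (X ^ i).map f := by
    intro i
    have := (f.mapMatrix (m := ι)).map_pow X i
    exact this.symm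
  have hY1 : ∀ i : ℕ, Y ^ i = 1 ↔ X ^ i = 1 := by
    intro i
    rw [hY, show (1 : Matrix ι ι L) = (1 : Matrix ι ι F).map f from
      (f.mapMatrix (m := ι)).map_one.symm]
    constructor
    · intro h
      exact Matrix.map_injective hf h
    · intro h
      rw [h]
  have hmem : ∀ x : L, x ∈ (X.charpoly.aroots L).toFinset ↔ Module.End.HasEigenvalue (Y.toLin') x := by
    intro x
    rw [Module.End.hasEigenvalue_iff_isRoot_charpoly, Matrix.charpoly_toLin', Matrix.charpoly_map,
      Multiset.mem_toFinset, Polynomial.aroots_def, Polynomial.mem_roots]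
    exact (Polynomial.Monic.map _ (Matrix.charpoly_monic _)).ne_zero
  have hunit : IsUnit X.det := by
    have h4 : X.det ^ (r * s) = 1 := by rw [← Matrix.det_pow, h1, Matrix.det_one]
    refine IsUnit.of_pow_eq_one h4 ?_
    intro h0
    rcases Nat.mul_eq_zero.1 h0 with h | h
    · apply hr; rw [h]; simp
    · apply hs; rw [h]; simp
  have hinv : X⁻¹ * X = 1 := Matrix.nonsing_inv_mul _ hunit
  refine ⟨L, inferInstance, (X.charpoly.aroots L).toFinset, ?_, ?_, ?_, ?_, ?_, ?_⟩
  · refine (Multiset.toFinset_card_le _).trans ((Polynomial.card_roots' _).trans ?_)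
    rw [Polynomial.natDegree_map, Matrix.charpoly_natDegree_eq_dim]
  · intro x hx
    rw [Multiset.mem_toFinset, Polynomial.mem_aroots] at hx ⊢
    refine ⟨hx.1, ?_⟩
    have h4 := Polynomial.aeval_algHom_apply (FiniteField.frobeniusAlgHom F L) x X.charpoly
    rw [hx.2, map_zero] at h4
    exact h4
  · intro x hx
    rw [hmem] at hx
    obtain ⟨v, hv⟩ := hx.exists_hasEigenvector
    have hv1 := hv.apply_eq_smul
    have hx0 : x ≠ 0 := by
      rintro rfl
      rw [zero_smul] at hv1
      apply hv.2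
      have h5 : (X⁻¹.map f) *ᵥ (Y *ᵥ v) = 0 := by
        rw [Matrix.toLin'_apply] at hv1
        rw [hv1, Matrix.mulVec_zero]
      rw [Matrix.mulVec_mulVec] at h5
      have h6 : X⁻¹.map f * Y = 1 := by
        have := (f.mapMatrix (m := ι)).map_mul X⁻¹ X
        rw [hinv, map_one] at this
        exact this.symm
      rwa [h6, Matrix.one_mulVec] at h5
    have h7 : Module.End.HasEigenvalue (X⁻¹.map f).toLin' x⁻¹ := by
      refine Module.End.hasEigenvalue_of_hasEigenvector (x := v)
        ⟨Module.End.mem_eigenspace_iff.2 ?_, hv.2⟩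
      rw [Matrix.toLin'_apply] at hv1 ⊢
      have h8 : (X⁻¹.map f) *ᵥ (Y *ᵥ v) = v := by
        rw [Matrix.mulVec_mulVec]
        have h6 : X⁻¹.map f * Y = 1 := by
          have := (f.mapMatrix (m := ι)).map_mul X⁻¹ X
          rw [hinv, map_one] at this
          exact this.symm
        rw [h6, Matrix.one_mulVec]
      rw [hv1, Matrix.mulVec_smul] at h8
      rw [← h8, smul_smul, inv_mul_cancel₀ hx0, one_smul, h8]
    rw [Multiset.mem_toFinset, Polynomial.mem_aroots, hX, ← Polynomial.mem_aroots,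
      Polynomial.aroots_def, Polynomial.mem_roots
        (Polynomial.Monic.map _ (Matrix.charpoly_monic _)).ne_zero, ← Matrix.charpoly_map,
      ← Matrix.charpoly_toLin', ← Module.End.hasEigenvalue_iff_isRoot_charpoly]
    exact h7
  · intro x hx
    rw [hmem] at hx
    obtain ⟨v, hv⟩ := hx.exists_hasEigenvector
    have h4 := (hv.pow_apply (r * s))
    rw [← Matrix.toLin'_pow, (hY1 _).2 h1, Matrix.toLin'_one, LinearMap.id_apply] at h4
    have h5 : (x ^ (r * s) - 1) • v = 0 := by rw [sub_smul, one_smul, ← h4, sub_self]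
    exact sub_eq_zero.1 ((smul_eq_zero.1 h5).resolve_right hv.2)
  · obtain ⟨a, ha, ha1⟩ := exists_eigen (L := L) (Y.toLin') (r := r) (s := s)
      (by
        intro h
        apply hr
        apply hf
        rw [map_natCast, map_zero, h]) (by
        rw [← pow_mul, ← Matrix.toLin'_pow, (hY1 _).2 (by rw [mul_comm, h1]), Matrix.toLin'_one]
        rfl) (by
        intro h
        apply h2
        rw [← hY1]
        apply Matrix.toLin'.injective
        rw [Matrix.toLin'_pow, h, Matrix.toLin'_one]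
        rfl)
    exact ⟨a, (hmem a).2 ha, ha1⟩
  · obtain ⟨a, ha, ha1⟩ := exists_eigen (L := L) (Y.toLin') (r := s) (s := r)
      (by
        intro h
        apply hs
        apply hf
        rw [map_natCast, map_zero, h]) (by
        rw [← pow_mul, ← Matrix.toLin'_pow, (hY1 _).2 h1, Matrix.toLin'_one]
        rfl) (by
        intro h
        apply h3
        rw [← hY1]
        apply Matrix.toLin'.injective
        rw [Matrix.toLin'_pow, h, Matrix.toLin'_one]
        rfl)
    exact ⟨a, (hmem a).2 ha, ha1⟩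

end Cfsg.Agent.H376.SpOrbit
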