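import Cfsg.Agent.H376.CocPsl
import Mathlib

/-!
# Cocliques in `PSL_n(q)`: sharper bounds

* `psl_coclique_half`: `4 ≤ n` : `|C| ≤ 1 + n / 2`;
* `psl_coclique_three`: `n = 2, 3`, all members at least 5: `|C| ≤ 3`;
* `psl_dvd_of_sl`: `x ∣ |SL_a(q)|`, `a < n` : `x ∣ |PSL_n(q)|`.
-/

set_option autoImplicit false

namespace Cfsg.Agent.H376.Coc

open Matrix

variable {F : Type*} [Field F] [Fintype F]

theorem card_le_of_inj' {C T : Finset ℕ} (f : ℕ → ℕ)
    (hf : ∀ s ∈ C, f s ∈ T) (hinj : ∀ s ∈ C, ∀ t ∈ C, f s = f t → s = t) :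
    C.card ≤ T.card :=
  Finset.card_le_card_of_injOn f hf (fun s hs t ht h => hinj s hs t ht h)

theorem psl_coclique_half {n : ℕ} {C : Finset ℕ}
    (hC : IsCoc (Matrix.ProjectiveSpecialLinearGroup (Fin n) F) C) (hn : 4 ≤ n) :
    C.card ≤ 1 + n / 2 := by
  classical
  by_cases h : ∃ x ∈ C, x ∣ Nat.card (Matrix.SpecialLinearGroup (Fin (n / 2)) F)
  · obtain ⟨x, hxC, hx⟩ := h
    exact psl_coclique hC hxC (by omega) (by omega) hx
  · push Not at h
    have hlab : ∀ s ∈ C, n / 2 < orderOf ((Fintype.card F : ℕ) : ZMod s) ∧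
        orderOf ((Fintype.card F : ℕ) : ZMod s) ≤ n := fun s hs =>
      psl_label (hC.prime s hs) (by omega) (by omega) (hC.dvd s hs) (h s hs)
    have h1 := card_le_of_inj' (C := C) (T := Finset.Ioc (n / 2) n)
      (fun s => orderOf ((Fintype.card F : ℕ) : ZMod s))
      (fun s hs => Finset.mem_Ioc.2 (hlab s hs))
      (fun s hs t ht hst => by
        by_contra hne
        exact hC.indep s hs t ht hne (psl_adj_same (hC.prime s hs) (hC.prime t ht) hne
          (by have := (hlab t ht).1; omega) (hlab t ht).2 hst rfl))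
    rw [Nat.card_Ioc] at h1
    omega

omit [Fintype F] in
theorem psl_dvd_of_sl [Finite F] {n a x : ℕ} (h : a < n)
    (hx : x ∣ Nat.card (Matrix.SpecialLinearGroup (Fin a) F)) :
    x ∣ Nat.card (Matrix.ProjectiveSpecialLinearGroup (Fin n) F) := by
  obtain ⟨φ, hφ, h1⟩ := exists_phi (F := F) (a := a) (b := 1) (n := n) h
  let ψ : Matrix.SpecialLinearGroup (Fin a) F →* Matrix.ProjectiveSpecialLinearGroup (Fin n) F :=
    (QuotientGroup.mk' _).comp (φ.comp (MonoidHom.inl _ _))
  have hψ : Function.Injective ψ := by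
    rw [injective_iff_map_eq_one]
    intro A hA
    have h2 : φ (A, 1) ∈ Subgroup.center (Matrix.SpecialLinearGroup (Fin n) F) :=
      (QuotientGroup.eq_one_iff _).1 hA
    obtain ⟨r, hr⟩ := center_scalar h2
    obtain ⟨h3, h4⟩ := h1 _ r hr
    have h5 : r = 1 := by
      have h6 := congrFun (congrFun h4 0) 0
      simpa using h6.symm
    rw [h5, one_smul] at h3
    exact Subtype.ext h3
  exact hx.trans (Subgroup.card_dvd_of_injective ψ hψ)

/-! ### `n = 2, 3` -/

/-- the matrix `diag(u, u, u⁻²)` times a transvection, `n = 3` -/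
theorem adj_three_char {p s : ℕ} [Fact p.Prime] [CharP F p] (hs : s.Prime) (hs5 : 5 ≤ s)
    (h1 : s ∣ Fintype.card F - 1) :
    ∃ g : Matrix.ProjectiveSpecialLinearGroup (Fin 3) F, orderOf g = p * s := by
  have hp : p.Prime := Fact.out
  have := Fact.mk hs
  have hcard : Nat.card Fˣ = Fintype.card F - 1 := by
    rw [Nat.card_units, Nat.card_eq_fintype_card]
  obtain ⟨u, hu⟩ := exists_prime_orderOf_dvd_card' (G := Fˣ) s (by rw [hcard]; exact h1)
  have hps : p ≠ s := by
    rintro rfl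
    obtain ⟨m, _, hm⟩ := FiniteField.card F p
    have h2 : p ∣ Fintype.card F := by rw [hm]; exact dvd_pow_self p m.ne_zero
    have h3 := (Nat.dvd_sub_iff_right Fintype.card_pos h2).1 h1
    exact hp.one_lt.ne' (Nat.dvd_one.1 h3)
  have hcop : Nat.Coprime p s := (Nat.coprime_primes hp hs).2 hps
  let X : Matrix.SpecialLinearGroup (Fin 3) F := ⟨!![(u : F), 0, 0; 0, (u : F), 0; 0, 0, ((u⁻¹ ^ 2 : Fˣ) : F)], by
    rw [Matrix.det_fin_three]
    simp
    field_simp⟩
  let Y : Matrix.SpecialLinearGroup (Fin 3) F := ⟨!![1, 1, 0; 0, 1, 0; 0, 0, 1], by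
    rw [Matrix.det_fin_three]
    simp⟩
  have hXk : ∀ k : ℕ, (X ^ k).1 = !![((u ^ k : Fˣ) : F), 0, 0; 0, ((u ^ k : Fˣ) : F), 0;
      0, 0, (((u⁻¹ ^ 2) ^ k : Fˣ) : F)] := by
    intro k
    induction k with
    | zero => ext i j; fin_cases i <;> fin_cases j <;> simp
    | succ k ih =>
      rw [pow_succ, Matrix.SpecialLinearGroup.coe_mul, ih]
      ext i j
      fin_cases i <;> fin_cases j <;> simp [X, Matrix.mul_apply, Fin.sum_univ_three, pow_succ]
  have hYk : ∀ k : ℕ, (Y ^ k).1 = !![1, (k : F), 0; 0, 1, 0; 0, 0, 1] := by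
    intro k
    induction k with
    | zero => ext i j; fin_cases i <;> fin_cases j <;> simp
    | succ k ih =>
      rw [pow_succ, Matrix.SpecialLinearGroup.coe_mul, ih]
      ext i j
      fin_cases i <;> fin_cases j <;> simp [Y, Matrix.mul_apply, Fin.sum_univ_three]
      ring
  have hXY : Commute X Y := by
    apply Subtype.ext
    change X.1 * Y.1 = Y.1 * X.1
    ext i j
    fin_cases i <;> fin_cases j <;> simp [X, Y, Matrix.mul_apply, Fin.sum_univ_three]
  refine ⟨QuotientGroup.mk (X * Y), ?_⟩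
  have key : ∀ k : ℕ, (X * Y) ^ k ∈ Subgroup.center (Matrix.SpecialLinearGroup (Fin 3) F) →
      p ∣ k ∧ s ∣ k := by
    intro k hk
    obtain ⟨r, hr⟩ := center_scalar hk
    rw [hXY.mul_pow, Matrix.SpecialLinearGroup.coe_mul, hXk, hYk] at hr
    have e01 := congrFun (congrFun hr 0) 1
    have e00 := congrFun (congrFun hr 0) 0
    have e22 := congrFun (congrFun hr 2) 2
    simp [Matrix.mul_apply, Fin.sum_univ_three] at e01 e00 e22
    constructor
    · exact (CharP.cast_eq_zero_iff F p k).1 e01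
    · have h2 : u ^ k = (u⁻¹ ^ 2) ^ k := by
        apply Units.ext
        push_cast
        rw [e00, ← e22]
        simp
      have h3 : u ^ (3 * k) = 1 := by
        have h4 : u ^ (3 * k) = u ^ k * (u ^ 2) ^ k := by rw [← pow_mul, ← pow_add]; ring_nf
        rw [h4, h2, ← mul_pow]
        simp
      have h4 := orderOf_dvd_of_pow_eq_one h3
      rw [hu] at h4
      rcases hs.dvd_mul.1 h4 with h5 | h5
      · have := Nat.le_of_dvd (by norm_num) h5
        omega
      · exact h5
  have hone : (X * Y) ^ (p * s) = 1 := by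
    rw [hXY.mul_pow]
    apply Subtype.ext
    rw [Matrix.SpecialLinearGroup.coe_mul, hXk, hYk]
    have h2 : u ^ (p * s) = 1 := by rw [mul_comm, pow_mul, ← hu, pow_orderOf_eq_one, one_pow]
    have h3 : (((p * s : ℕ)) : F) = 0 := by push_cast; rw [CharP.cast_eq_zero, zero_mul]
    have h4 : (u⁻¹ ^ 2) ^ (p * s) = 1 := by rw [← pow_mul, mul_comm, pow_mul, inv_pow, h2]; simp
    rw [h2, h3, h4]
    ext i j
    fin_cases i <;> fin_cases j <;> simp
  apply Nat.dvd_antisymm
  · apply orderOf_dvd_of_pow_eq_one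
    rw [← QuotientGroup.mk_pow, hone, QuotientGroup.mk_one]
  · have h2 : (X * Y) ^ orderOf (QuotientGroup.mk (X * Y) : Matrix.SpecialLinearGroup (Fin 3) F ⧸
        Subgroup.center (Matrix.SpecialLinearGroup (Fin 3) F)) ∈
        Subgroup.center (Matrix.SpecialLinearGroup (Fin 3) F) := by
      rw [← QuotientGroup.eq_one_iff, QuotientGroup.mk_pow, pow_orderOf_eq_one]
    obtain ⟨h3, h4⟩ := key _ h2
    exact Nat.Coprime.mul_dvd_of_dvd_of_dvd hcop h3 h4

/-- two primes dividing `q - 1` -/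
theorem adj_one {n s t : ℕ} (hn : 2 ≤ n) (hs : s.Prime) (ht : t.Prime) (hst : s ≠ t)
    (hs5 : 5 ≤ s) (ht5 : 5 ≤ t) (h1 : s ∣ Fintype.card F - 1) (h2 : t ∣ Fintype.card F - 1) :
    ∃ g : Matrix.ProjectiveSpecialLinearGroup (Fin n) F, orderOf g = s * t := by
  have hcop : Nat.Coprime s t := (Nat.coprime_primes hs ht).2 hst
  have hcard : Nat.card Fˣ = Fintype.card F - 1 := by
    rw [Nat.card_units, Nat.card_eq_fintype_card]
  obtain ⟨u, hu⟩ : ∃ u : Fˣ, orderOf u = s * t := by
    have := Fact.mk hs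
    have := Fact.mk ht
    obtain ⟨a, ha⟩ := exists_prime_orderOf_dvd_card' (G := Fˣ) s (by rw [hcard]; exact h1)
    obtain ⟨b, hb⟩ := exists_prime_orderOf_dvd_card' (G := Fˣ) t (by rw [hcard]; exact h2)
    refine ⟨a * b, ?_⟩
    rw [(Commute.all a b).orderOf_mul_eq_mul_orderOf_of_coprime (by rw [ha, hb]; exact hcop), ha, hb]
  let D : Matrix.SpecialLinearGroup (Fin 2) F := ⟨!![(u : F), 0; 0, ((u⁻¹ : Fˣ) : F)], by
    rw [Matrix.det_fin_two]
    simp⟩
  have hDk : ∀ k : ℕ, (D ^ k).1 = !![((u ^ k : Fˣ) : F), 0; 0, ((u⁻¹ ^ k : Fˣ) : F)] := by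
    intro k
    induction k with
    | zero => ext i j; fin_cases i <;> fin_cases j <;> simp
    | succ k ih =>
      rw [pow_succ, Matrix.SpecialLinearGroup.coe_mul, ih]
      ext i j
      fin_cases i <;> fin_cases j <;> simp [D, Matrix.mul_apply, pow_succ]
  have hord : orderOf D = s * t := by
    rw [← hu]
    apply orderOf_eq_orderOf_iff.2
    intro k
    constructor
    · intro h
      have h3 := congrArg Subtype.val h
      rw [hDk] at h3
      have h4 := congrFun (congrFun h3 0) 0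
      apply Units.ext
      simpa using h4
    · intro h
      apply Subtype.ext
      rw [hDk, inv_pow, h]
      ext i j
      fin_cases i <;> fin_cases j <;> simp
  obtain ⟨φ, hφ, h3⟩ := exists_phi (F := F) (a := 2) (b := 0) (n := n) (by omega)
  have hφord : orderOf (φ (D, 1)) = s * t := by
    rw [orderOf_injective _ hφ, Prod.orderOf_mk, hord, orderOf_one, Nat.lcm_one_right]
  refine ⟨QuotientGroup.mk (φ (D, 1)), ?_⟩
  rw [orderOf_mk_of, hφord]
  intro k hk
  obtain ⟨r, hr⟩ := center_scalar hk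
  rw [← map_pow] at hr
  have h4 : (D ^ k).1 = r • 1 := (h3 _ r hr).1
  rw [hDk] at h4
  have h00 := congrFun (congrFun h4 0) 0
  have h11 := congrFun (congrFun h4 1) 1
  simp at h00 h11
  have h5 : u ^ (2 * k) = 1 := by
    have h6 : u ^ k = (u ^ k)⁻¹ := by
      apply Units.ext
      rw [Units.val_pow_eq_pow_val, h00, ← h11]
      simp
    rw [two_mul, pow_add]
    nth_rw 1 [h6]
    exact inv_mul_cancel _
  have h6 := orderOf_dvd_of_pow_eq_one h5
  rw [hu] at h6
  have h7 : s * t ∣ k := by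
    refine Nat.Coprime.dvd_of_dvd_mul_left ?_ h6
    apply Nat.Coprime.mul_left
    · exact (Nat.coprime_primes hs Nat.prime_two).2 (by omega)
    · exact (Nat.coprime_primes ht Nat.prime_two).2 (by omega)
  have h8 : φ (D, 1) ^ k = 1 := orderOf_dvd_iff_pow_eq_one.1 (hφord ▸ h7)
  exact h8

theorem psl_coclique_three {n : ℕ} {C : Finset ℕ}
    (hC : IsCoc (Matrix.ProjectiveSpecialLinearGroup (Fin n) F) C) (hn : 2 ≤ n) (hn3 : n ≤ 3)
    (h5 : ∀ s ∈ C, 5 ≤ s) : C.card ≤ 3 := by
  classical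
  obtain ⟨p, hc⟩ := CharP.exists F
  have hp : Fact p.Prime := ⟨CharP.char_is_prime F p⟩
  obtain ⟨m, _, hm⟩ := FiniteField.card F p
  have hq1 : 1 ≤ Fintype.card F := Fintype.card_pos
  -- labels
  have hlab : ∀ s ∈ C, s ≠ p → 1 ≤ orderOf ((Fintype.card F : ℕ) : ZMod s) ∧
      orderOf ((Fintype.card F : ℕ) : ZMod s) ≤ n := by
    intro s hs hsp
    have hcop := cop_card (F := F) (hC.prime s hs) hsp
    have hpos := ord_pos (hC.prime s hs) hcop
    refine ⟨hpos, ?_⟩
    rcases psl_dvd (hC.prime s hs) (by omega) (hC.dvd s hs) with h | ⟨j, hj1, hjn, hj⟩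
    · exact absurd (Nat.Coprime.eq_one_of_dvd hcop.symm h) (hC.prime s hs).one_lt.ne'
    · exact (Nat.le_of_dvd (by omega) ((ord_dvd_iff hq1).2 hj)).trans hjn
  have hinj : ∀ s ∈ C, s ≠ p → ∀ t ∈ C, t ≠ p → orderOf ((Fintype.card F : ℕ) : ZMod s) =
      orderOf ((Fintype.card F : ℕ) : ZMod t) → s = t := by
    intro s hs hsp t ht htp hst
    by_contra hne
    by_cases h1 : orderOf ((Fintype.card F : ℕ) : ZMod s) = 1
    · have hs1 := (ord_dvd_iff (s := s) (d := 1) hq1).1 (by rw [h1])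
      have ht1 := (ord_dvd_iff (s := t) (d := 1) hq1).1 (by rw [← hst, h1])
      rw [pow_one] at hs1 ht1
      exact hC.indep s hs t ht hne (adj_one hn (hC.prime s hs) (hC.prime t ht) hne (h5 s hs)
        (h5 t ht) hs1 ht1)
    · have h2 := hlab s hs hsp
      exact hC.indep s hs t ht hne (psl_adj_same (hC.prime s hs) (hC.prime t ht) hne
        (by omega) h2.2 rfl hst.symm)
  by_cases hpC : p ∈ C
  · rcases Nat.lt_or_ge n 3 with h | h
    · have h1 := card_le_of_inj (C := C) (T := Finset.Icc 1 2) (x := p)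
        (fun s => orderOf ((Fintype.card F : ℕ) : ZMod s))
        (fun s hs hsx => Finset.mem_Icc.2 ⟨(hlab s hs hsx).1, (hlab s hs hsx).2.trans (by omega)⟩)
        hinj
      simpa using h1
    · obtain rfl : n = 3 := by omega
      have h1 := card_le_of_inj (C := C) (T := Finset.Icc 2 3) (x := p)
        (fun s => orderOf ((Fintype.card F : ℕ) : ZMod s))
        (fun s hs hsx => Finset.mem_Icc.2 ⟨by
          by_contra hlt
          have h2 : orderOf ((Fintype.card F : ℕ) : ZMod s) = 1 := by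
            have := (hlab s hs hsx).1
            omega
          have hs1 := (ord_dvd_iff (s := s) (d := 1) hq1).1 (by rw [h2])
          rw [pow_one] at hs1
          exact hC.indep p hpC s hs (Ne.symm hsx) (adj_three_char (hC.prime s hs) (h5 s hs) hs1),
          (hlab s hs hsx).2⟩) hinj
      simpa using h1
  · have h1 := card_le_of_inj' (C := C) (T := Finset.Icc 1 3)
      (fun s => orderOf ((Fintype.card F : ℕ) : ZMod s))
      (fun s hs => Finset.mem_Icc.2 ⟨(hlab s hs (fun h => hpC (h ▸ hs))).1,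
        (hlab s hs (fun h => hpC (h ▸ hs))).2.trans hn3⟩)
      (fun s hs t ht => hinj s hs (fun h => hpC (h ▸ hs)) t ht (fun h => hpC (h ▸ ht)))
    simpa using h1

end Cfsg.Agent.H376.Coc
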