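import Cfsg.Agent.H376.ElimPsl
import Cfsg.Agent.H376.CocPsp
import Mathlib

/-!
# `L = PSL_N(3)`, `N ≥ 9`, or `PSL_N(5)`, `N ≥ 11`: `S = PSp_{2m}(q₀)` has the characteristic of `L`
-/

set_option autoImplicit false

namespace Cfsg.Agent.H376.Coc

open Finset

theorem card_odd (b a : ℕ) :
    ((Ioc b (b + a)).filter fun j => Odd j).card = (b + a + 1) / 2 - (b + 1) / 2 := by
  induction a with
  | zero => simp
  | succ a ih =>
    rw [← add_assoc, ← Finset.insert_Ioc_right_eq_Ioc_add_one (by omega : b ≤ b + a), filter_insert]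
    split_ifs with h
    · rw [card_insert_of_notMem (by simp), ih]
      obtain ⟨k, hk⟩ := h
      omega
    · rw [ih]
      rw [Nat.not_odd_iff_even] at h
      obtain ⟨k, hk⟩ := h
      omega

theorem labels_window {m a : ℕ} (h : a ≤ m) : (labels (m - a) m).card ≤ a + (a + 1) / 2 := by
  have h1 := card_labels_le (m - a) m
  have h2 := card_odd (m - a) a
  rw [Nat.sub_add_cancel h] at h2
  omega

variable {E : Type*} [Field E] [Fintype E]

/-- sharper form of `psp_coclique_gen` -/
theorem psp_coclique_half {n : ℕ} {C : Finset ℕ} (hC : IsCoc (Cfsg.PSp n E) C) (hn : 2 ≤ n) :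
    C.card ≤ max (labels (n / 2) n).card (1 + (labels (n - n / 2) n).card) := by
  classical
  by_cases h : ∃ x ∈ C, x ∣ Nat.card (Matrix.symplecticGroup (Fin (n / 2)) E)
  · obtain ⟨x, hxC, hx⟩ := h
    exact le_max_of_le_right (psp_coclique hC hxC (by omega) hx)
  · push Not at h
    apply le_max_of_le_left
    have hlab : ∀ s ∈ C, orderOf ((Fintype.card E : ℕ) : ZMod s) ∈ labels (n / 2) n :=
      fun s hs => psp_label (hC.prime s hs) (by omega) (hC.dvd s hs) (h s hs)
    exact card_le_of_inj' (C := C) (T := labels (n / 2) n)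
      (fun s => orderOf ((Fintype.card E : ℕ) : ZMod s)) hlab
      (fun s hs t ht hst => by
        by_contra hne
        exact hC.indep s hs t ht hne (psp_adj_same (hC.prime s hs) (hC.prime t ht) hne
          (b := n / 2) (by omega) (hlab t ht) hst rfl))

/-- `Sp_{2a} ≤ PSp_{2m}` as far as odd primes are concerned, `a ≤ m` -/
theorem psp_dvd_of_sp {m a x : ℕ} (hx : x.Prime) (hx2 : x ≠ 2) (h : a ≤ m)
    (hxa : x ∣ Nat.card (Matrix.symplecticGroup (Fin a) E)) : x ∣ Nat.card (Cfsg.PSp m E) := by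
  have := Fact.mk hx
  obtain ⟨A, hA⟩ := exists_prime_orderOf_dvd_card' x hxa
  obtain ⟨C, hC⟩ := SpEmb.exists_block (F := E) (n := m) (b := 0) (by omega) A hA 1 orderOf_one
  rw [Nat.lcm_one_right] at hC
  have h2 := PrimeOrd.orderOf_mk (Subgroup.center (Matrix.symplecticGroup (Fin m) E))
    (fun y hy => SpEmb.center_pow y hy)
    (Nat.coprime_two_left.2 (hx.odd_of_ne_two hx2)) C hC
  have h3 := orderOf_dvd_natCard (QuotientGroup.mk C :
    Matrix.symplecticGroup (Fin m) E ⧸ Subgroup.center (Matrix.symplecticGroup (Fin m) E))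
  rw [h2] at h3
  exact h3

end Cfsg.Agent.H376.Coc

namespace Cfsg.Agent.H376.LPsl

open Finset Cfsg.Agent.H376.Coc Cfsg.Agent.H376.Num

variable {F : Type*} [Field F] [Fintype F] {q N : ℕ} {E : Type*} [Field E] [Fintype E] {m : ℕ}

theorem psp_test (hF : Fintype.card F = q) (hq : 3 ≤ q) (hN : 5 ≤ N)
    (H : Hyp (Cfsg.PSp m E) (Matrix.ProjectiveSpecialLinearGroup (Fin N) F))
    {x a : ℕ} (hx : Good q x) (_ : 1 ≤ a)
    (hxa : x ∣ Nat.card (Matrix.symplecticGroup (Fin a) E)) :
    m < a ∨ (orderOf ((q : ℕ) : ZMod x) ≤ N ∧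
      (m = a ∨ min (orderOf ((q : ℕ) : ZMod x)) (N - N / 2) ≤ 2 + (a + (a + 1) / 2))) := by
  by_cases hm : m < a
  · exact Or.inl hm
  right
  obtain ⟨h1, D, hD, hxD, hcard⟩ := thr hF hq (by omega) H hx
    (psp_dvd_of_sp hx.prime hx.odd (by omega) hxa)
  refine ⟨h1, ?_⟩
  by_cases hm1 : m = a
  · exact Or.inl hm1
  right
  have h2 := psp_coclique hD hxD (by omega) hxa
  have h3 := labels_window (m := m) (a := a) (by omega)
  omega

theorem sp_of_pow {p f x a : ℕ} (hE : Fintype.card E = p ^ f)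
    (ha : 1 ≤ a) (h : x ∣ p ^ (2 * a) - 1) : x ∣ Nat.card (Matrix.symplecticGroup (Fin a) E) := by
  refine sp_dvd ha (Or.inr ⟨a, by omega, le_rfl, h.trans ?_⟩)
  have h2 : (p ^ f) ^ (2 * a) = (p ^ (2 * a)) ^ f := by rw [← pow_mul, ← pow_mul, mul_comm]
  rw [hE, h2]
  have h1 := Nat.sub_dvd_pow_sub_pow (p ^ (2 * a)) 1 f
  rwa [one_pow] at h1

theorem psp_rank (hF : Fintype.card F = q) (hq : 3 ≤ q) (hN : 8 ≤ N) (hm2 : 2 ≤ m)
    (H : Hyp (Cfsg.PSp m E) (Matrix.ProjectiveSpecialLinearGroup (Fin N) F)) :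
    (m ≤ 3 → N - N / 2 ≤ 4) ∧ (m = 4 → N - N / 2 ≤ 5) ∧ (m = 5 → N - N / 2 ≤ 6) ∧
      (m = 6 → N - N / 2 ≤ 6) ∧ (m = 7 → N - N / 2 ≤ 7) := by
  obtain ⟨D, hD, hcard, hgood⟩ := top hF hq (by omega) H
  have h1 := psp_coclique_half hD hm2
  refine ⟨fun hm => ?_, fun hm => ?_, fun hm => ?_, fun hm => ?_, fun hm => ?_⟩
  · have h2 : m = 2 ∨ m = 3 := by omega
    rcases h2 with rfl | rfl
    · have h3 : max (labels (2 / 2) 2).card (1 + (labels (2 - 2 / 2) 2).card) = 2 := by decide
      omega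
    · have h3 : max (labels (3 / 2) 3).card (1 + (labels (3 - 3 / 2) 3).card) = 3 := by decide
      omega
  · subst hm
    have h3 : max (labels (4 / 2) 4).card (1 + (labels (4 - 4 / 2) 4).card) = 4 := by decide
    omega
  · subst hm
    have h3 : max (labels (5 / 2) 5).card (1 + (labels (5 - 5 / 2) 5).card) = 5 := by decide
    omega
  · subst hm
    have h3 : max (labels (6 / 2) 6).card (1 + (labels (6 - 6 / 2) 6).card) = 5 := by decide
    omega
  · subst hm
    have h3 : max (labels (7 / 2) 7).card (1 + (labels (7 - 7 / 2) 7).card) = 6 := by decide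
    omega

/-- **`PSp_{2m}(q₀)` in cross characteristic** -/
theorem elim_psp (hF : Fintype.card F = q) (hq : (q = 3 ∧ 9 ≤ N) ∨ (q = 5 ∧ 11 ≤ N)) (hm : 2 ≤ m)
    (H : Hyp (Cfsg.PSp m E) (Matrix.ProjectiveSpecialLinearGroup (Fin N) F)) :
    ∃ f : ℕ, f ≠ 0 ∧ Fintype.card E = q ^ f := by
  classical
  obtain ⟨p, hc⟩ := CharP.exists E
  obtain ⟨f, hp, hf⟩ := FiniteField.card E p
  have := Fact.mk hp
  have hpE : p ∣ Fintype.card E := by rw [hf]; exact dvd_pow_self p f.ne_zero
  have hpSL : p ∣ Nat.card (Matrix.symplecticGroup (Fin 1) E) := sp_dvd le_rfl (Or.inl hpE)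
  obtain ⟨hr1, hr4, hr5, hr6, hr7⟩ := psp_rank hF (by omega) (by omega) hm H
  have hm4 : 4 ≤ m := by
    by_contra hlt
    have := hr1 (by omega)
    omega
  -- the characteristic
  have hchar : Good q p → orderOf ((q : ℕ) : ZMod p) ≤ 4 := by
    intro hg
    rcases psp_test hF (by omega) (by omega) H hg le_rfl hpSL with h | ⟨h1, h | h⟩ <;> omega
  by_cases hpq : p = q
  · exact ⟨f, f.ne_zero, by rw [hf, hpq]⟩
  exfalso
  rcases hq with ⟨rfl, hN⟩ | ⟨rfl, hN⟩
  · rcases cand_three hp hpq hchar with rfl | rfl | rfl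
    · have h1 := psp_test hF (by omega) (by omega) H g3_31.1 (a := 5) (by norm_num)
        (sp_of_pow hf (by norm_num) (by norm_num))
      have h2 := psp_test hF (by omega) (by omega) H g3_17.1 (a := 4) (by norm_num)
        (sp_of_pow hf (by norm_num) (by norm_num))
      rw [g3_31.2] at h1
      rw [g3_17.2] at h2
      omega
    · have h1 := psp_test hF (by omega) (by omega) H g3_31.1 (a := 3) (by norm_num)
        (sp_of_pow hf (by norm_num) (by norm_num))
      rw [g3_31.2] at h1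
      omega
    · have h1 := psp_test hF (by omega) (by omega) H g3_17.1 (a := 2) (by norm_num)
        (sp_of_pow hf (by norm_num) (by norm_num))
      rw [g3_17.2] at h1
      omega
  · rcases cand_five hp hpq hchar with rfl | rfl | rfl | rfl
    · have h1 := psp_test hF (by omega) (by omega) H g5_127.1 (a := 7) (by norm_num)
        (sp_of_pow hf (by norm_num) (by norm_num))
      have h2 := psp_test hF (by omega) (by omega) H g5_17.1 (a := 4) (by norm_num)
        (sp_of_pow hf (by norm_num) (by norm_num))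
      rw [g5_127.2] at h1
      rw [g5_17.2] at h2
      omega
    · have h1 := psp_test hF (by omega) (by omega) H g5_61.1 (a := 5) (by norm_num)
        (sp_of_pow hf (by norm_num) (by norm_num))
      rw [g5_61.2] at h1
      omega
    · have h1 := psp_test hF (by omega) (by omega) H g5_17.1 (a := 2) (by norm_num)
        (sp_of_pow hf (by norm_num) (by norm_num))
      rw [g5_17.2] at h1
      omega
    · have h1 := psp_test hF (by omega) (by omega) H g5_37.1 (a := 2) (by norm_num)
        (sp_of_pow hf (by norm_num) (by norm_num))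
      rw [g5_37.2] at h1
      omega

end Cfsg.Agent.H376.LPsl
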