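import Cfsg.Agent.H376.Odd8Sp
import Cfsg.Agent.H376.WordEmb
import Cfsg.Agent.LieClassical.OrthCenter
import Cfsg.Agent.LieClassical.OrthForms
import Cfsg.Agent.LieClassical.OmegaReindex
import Cfsg.Agent.LieClassical.OmegaCenter
import Cfsg.Agent.LieClassical.SLGen
import Mathlib

/-!
# Elements of order `16` or `8 r` in the simple orthogonal groups over fields of odd order
-/

set_option autoImplicit false

namespace Cfsg.Agent.H376.Odd8

open Matrix QuadraticMap
open LieClassical.OmegaCenter ClassicalGeometry.Reflection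

section General

variable {ι : Type} [Fintype ι] [DecidableEq ι] {F : Type*} [Field F]

theorem act_mul {Q : (ι → F) → F} (g h : Cfsg.isometryGroup F Q) (x : ι → F) :
    act (g * h) x = act g (act h x) := by
  change (((g : Matrix.GeneralLinearGroup ι F) : Matrix ι ι F) *
    ((h : Matrix.GeneralLinearGroup ι F) : Matrix ι ι F)) *ᵥ x = _
  rw [← Matrix.mulVec_mulVec]

theorem act_pow {Q : (ι → F) → F} (g : Cfsg.isometryGroup F Q) {x : ι → F} (h : act g x = x)
    (k : ℕ) : act (g ^ k) x = x := by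
  induction k with
  | zero =>
    rw [pow_zero]
    exact Matrix.one_mulVec x
  | succ k ih => rw [pow_succ, act_mul, h, ih]

/-- **Transfer to `PΩ`.** -/
theorem transfer (h2 : (2 : F) ≠ 0) (Q : QuadraticForm F (ι → F))
    (hQ : (polarBilin Q).Nondegenerate) (hn : 3 ≤ Fintype.card ι)
    (hs : ∃ u : ι → F, u ≠ 0 ∧ Q u = 0) (x : Cfsg.isometryGroup F (⇑Q))
    (hx : x ∈ Cfsg.Omega F (⇑Q)) (u : ι → F) (hu : u ≠ 0) (hxu : act x u = u) :
    ∃ y : Cfsg.POmega F (⇑Q), orderOf y = orderOf x := by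
  let x' : Cfsg.Omega F (⇑Q) := ⟨x, hx⟩
  have hord : orderOf x' = orderOf x := by
    rw [← Subgroup.orderOf_coe]
  refine ⟨QuotientGroup.mk x', ?_⟩
  rw [← hord]
  apply Nat.dvd_antisymm
  · exact orderOf_map_dvd (QuotientGroup.mk' _) x'
  · apply orderOf_dvd_of_pow_eq_one
    set d := orderOf (QuotientGroup.mk x' : Cfsg.POmega F (⇑Q)) with hd
    have h3 : x' ^ d ∈ Subgroup.center (Cfsg.Omega F (⇑Q)) := by
      rw [← QuotientGroup.eq_one_iff, QuotientGroup.mk_pow, hd, pow_orderOf_eq_one]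
    rcases (LieClassical.OrthCenter.mem_center_omega_iff hQ hn hs _).1 h3 with h4 | h4
    · exact Subtype.ext (Subtype.ext (Units.ext h4))
    · exfalso
      have h5 := act_pow x hxu d
      have h6 : ((x ^ d : Cfsg.isometryGroup F (⇑Q)) : Matrix.GeneralLinearGroup ι F).1 = -1 := h4
      rw [act, h6, Matrix.neg_mulVec, Matrix.one_mulVec] at h5
      have h7 : (2 : F) • u = 0 := by
        rw [two_smul]
        nth_rewrite 1 [← h5]
        rw [neg_add_cancel]
      exact hu ((smul_eq_zero.1 h7).resolve_left h2)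

theorem eichler_pow (Q : QuadraticForm F (ι → F)) {u v : ι → F} (hu : Q u = 0)
    (huv : polar (⇑Q) u v = 0) (k : ℕ) (hk : polar (⇑Q) u ((k : F) • v) = 0) :
    eichler Q u v hu huv ^ k = eichler Q u ((k : F) • v) hu hk := by
  induction k with
  | zero =>
    rw [pow_zero]
    apply isometryGroup_ext
    intro x
    rw [coe_eichler, eichlerMatrix_mulVec]
    simp
  | succ k ih =>
    rw [pow_succ, ih (by rw [QuadraticMap.polar_smul_right, huv, smul_zero]), eichler_mul]
    apply eichler_ext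
    push_cast
    rw [add_smul, one_smul]

/-- **An element of order `8 p`.** -/
theorem transfer8 {p : ℕ} (hp : p.Prime) (hp2 : p ≠ 2) [CharP F p] (h2 : (2 : F) ≠ 0)
    (Q : QuadraticForm F (ι → F))
    (hQ : (polarBilin Q).Nondegenerate) (hn : 3 ≤ Fintype.card ι)
    (x : Cfsg.isometryGroup F (⇑Q))
    (hx : x ∈ Cfsg.Omega F (⇑Q)) (hx8 : orderOf x = 8) (u v : ι → F) (hu0 : u ≠ 0) (hu : Q u = 0)
    (huv : polar (⇑Q) u v = 0) (hv : Q v ≠ 0) (hxu : act x u = u) (hxv : act x v = v) :
    ∃ y : Cfsg.POmega F (⇑Q), orderOf y = 8 * p := by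
  have hv0 : v ≠ 0 := by
    rintro rfl
    rw [QuadraticMap.map_zero] at hv
    exact hv rfl
  set E := eichler Q u v hu huv with hE
  have hEu : act E u = u := by
    change eichlerMatrix Q u v *ᵥ u = u
    rw [eichlerMatrix_mulVec, polar_self', hu, polar_comm (⇑Q) v u, huv]
    simp
  have hcomm : Commute x E := by
    have h1 := conj_eichler Q hu huv x
    have h3 : eichler Q (act x u) (act x v) (by rw [map_act, hu]) (by rw [polar_act, huv]) = E := by
      apply isometryGroup_ext
      intro y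
      rw [coe_eichler, hE, coe_eichler, hxu, hxv]
    rw [h3] at h1
    exact (mul_inv_eq_iff_eq_mul.1 h1)
  have hEp : orderOf E = p := by
    have := Fact.mk hp
    apply orderOf_eq_prime
    · rw [hE, eichler_pow Q hu huv p (by rw [CharP.cast_eq_zero, zero_smul]; exact QuadraticMap.polar_zero_right _ _)]
      apply isometryGroup_ext
      intro y
      rw [coe_eichler, eichlerMatrix_mulVec, CharP.cast_eq_zero]
      simp
    · intro h
      obtain ⟨w, hw⟩ : ∃ w, polar (⇑Q) u w ≠ 0 := by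
        by_contra hcon
        push Not at hcon
        exact hu0 (hQ.1 u fun y => by rw [polarBilin_apply_apply]; exact hcon y)
      have h3 : eichlerMatrix Q u v *ᵥ w = w := by
        have h4 : eichlerMatrix Q u v = 1 := congrArg (fun g : Cfsg.isometryGroup F (⇑Q) =>
          ((g : Matrix.GeneralLinearGroup ι F) : Matrix ι ι F)) h
        rw [h4, Matrix.one_mulVec]
      rw [eichlerMatrix_mulVec] at h3
      have h5 : polar (⇑Q) u w • v = (polar (⇑Q) v w + Q v * polar (⇑Q) u w) • u := by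
        rw [add_smul]
        have h6 : polar (⇑Q) u w • v - (polar (⇑Q) v w • u + (Q v * polar (⇑Q) u w) • u) = 0 := by
          have h7 := sub_eq_zero.2 h3
          rw [← h7]
          abel
        exact sub_eq_zero.1 h6
      have h8 := congrArg (fun y => Q y) h5
      simp only [QuadraticMap.map_smul, hu, smul_zero] at h8
      rcases smul_eq_zero.1 h8 with h9 | h9
      · exact hw (mul_self_eq_zero.1 h9)
      · exact hv h9
  have hEΩ : E ∈ Cfsg.Omega F (⇑Q) := eichler_mem_omega Q hQ hu huv hv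
  have hcop : Nat.Coprime 8 p := by
    have : Nat.Coprime (2 ^ 3) p :=
      Nat.Coprime.pow_left _ ((Nat.coprime_primes Nat.prime_two hp).2 (Ne.symm hp2))
    exact this
  have hord : orderOf (x * E) = 8 * p := by
    rw [hcomm.orderOf_mul_eq_mul_orderOf_of_coprime (by rw [hx8, hEp]; exact hcop), hx8, hEp]
  obtain ⟨y, hy⟩ := transfer h2 Q hQ hn ⟨u, hu0, hu⟩ (x * E) (mul_mem hx hEΩ) u hu0
    (by rw [act_mul, hEu, hxu])
  exact ⟨y, hy.trans hord⟩

end General

/-! ### `GL_2 ≤ SL_3 ≤ SL_m` -/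

section Linear

variable {F : Type*} [Field F]

/-- `g ↦ diag(g, det g⁻¹)` -/
noncomputable def gl2 : GL (Fin 2) F →* Matrix.SpecialLinearGroup (Fin 2 ⊕ Fin 1) F where
  toFun g := ⟨fromBlocks g.1 0 0 (((Matrix.GeneralLinearGroup.det g)⁻¹ : Fˣ).1 •
      (1 : Matrix (Fin 1) (Fin 1) F)), by
    rw [Matrix.det_fromBlocks_zero₂₁, Matrix.det_smul, Matrix.det_one, mul_one, Fintype.card_fin,
      pow_one]
    exact congrArg Units.val (mul_inv_cancel (Matrix.GeneralLinearGroup.det g))⟩
  map_one' := by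
    apply Subtype.ext
    change fromBlocks (1 : Matrix (Fin 2) (Fin 2) F) 0 0 _ = 1
    rw [map_one, inv_one, Units.val_one, one_smul, Matrix.fromBlocks_one]
  map_mul' g h := by
    apply Subtype.ext
    change fromBlocks _ _ _ _ = fromBlocks _ _ _ _ * fromBlocks _ _ _ _
    rw [Matrix.fromBlocks_multiply]
    simp only [Matrix.zero_mul, Matrix.mul_zero, add_zero, zero_add, Units.val_mul, map_mul,
      _root_.mul_inv_rev, Matrix.smul_mul, Matrix.mul_smul, Matrix.one_mul, smul_smul, smul_zero]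

theorem gl2_injective : Function.Injective (gl2 (F := F)) := by
  intro g h hgh
  exact Units.ext (Matrix.fromBlocks_inj.1 (congrArg Subtype.val hgh)).1

/-- block embedding of `SL_a` in `SL_{a+b}` -/
def blk1 (a b : ℕ) : Matrix.SpecialLinearGroup (Fin a) F →*
    Matrix.SpecialLinearGroup (Fin a ⊕ Fin b) F where
  toFun A := ⟨Matrix.fromBlocks A.1 0 0 1, by
    rw [Matrix.det_fromBlocks_zero₂₁, A.2, Matrix.det_one, mul_one]⟩
  map_one' := by
    apply Subtype.ext
    exact Matrix.fromBlocks_one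
  map_mul' A B := by
    apply Subtype.ext
    change Matrix.fromBlocks (A.1 * B.1) 0 0 1 =
      Matrix.fromBlocks A.1 0 0 1 * Matrix.fromBlocks B.1 0 0 1
    rw [Matrix.fromBlocks_multiply]
    simp

/-- `SL_3 → SL_{3+c}` -/
def emb (c : ℕ) : Matrix.SpecialLinearGroup (Fin 3) F →*
    Matrix.SpecialLinearGroup (Fin (3 + c)) F :=
  (WordEmb.reidx finSumFinEquiv).comp (blk1 3 c)

theorem emb_injective (c : ℕ) : Function.Injective (emb (F := F) c) := by
  refine (WordEmb.reidx_injective _).comp ?_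
  intro A B h
  exact Subtype.ext (Matrix.fromBlocks_inj.1 (congrArg Subtype.val h)).1

theorem emb_apply (c : ℕ) (A : Matrix.SpecialLinearGroup (Fin 3) F) (i j : Fin (3 + c)) :
    (emb c A).1 i j = fromBlocks A.1 0 0 1 (finSumFinEquiv.symm i) (finSumFinEquiv.symm j) := rfl

theorem emb_col (c : ℕ) (A : Matrix.SpecialLinearGroup (Fin 3) F) (j : Fin c) :
    (emb c A).1 *ᵥ Pi.single (finSumFinEquiv (Sum.inr j)) 1 =
      Pi.single (finSumFinEquiv (Sum.inr j)) 1 := by
  rw [Matrix.mulVec_single_one]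
  ext i
  rw [Matrix.col_apply, emb_apply, Equiv.symm_apply_apply]
  obtain ⟨i, rfl⟩ := finSumFinEquiv.surjective i
  rw [Equiv.symm_apply_apply, Pi.single_apply]
  simp only [finSumFinEquiv.injective.eq_iff]
  rcases i with i | i
  · simp
  · simp [Matrix.one_apply]

theorem emb_row (c : ℕ) (A : Matrix.SpecialLinearGroup (Fin 3) F) (j : Fin c) :
    ((emb c A)⁻¹).1ᵀ *ᵥ Pi.single (finSumFinEquiv (Sum.inr j)) 1 =
      Pi.single (finSumFinEquiv (Sum.inr j)) 1 := by
  rw [← map_inv, Matrix.mulVec_single_one]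
  ext i
  rw [Matrix.col_apply, Matrix.transpose_apply, emb_apply, Equiv.symm_apply_apply]
  obtain ⟨i, rfl⟩ := finSumFinEquiv.surjective i
  rw [Equiv.symm_apply_apply, Pi.single_apply]
  simp only [finSumFinEquiv.injective.eq_iff]
  rcases i with i | i
  · simp
  · simp [Matrix.one_apply, eq_comm]

/-- elements of `SL_3(u)` of order dividing `u ^ 2 - 1` -/
theorem exists_SL_three [Finite F] {d : ℕ} (hd : d ∣ Nat.card F ^ 2 - 1) :
    ∃ A : Matrix.SpecialLinearGroup (Fin 3) F, orderOf A = d := by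
  obtain ⟨A, hA⟩ := PrimeOrd.exists_GL (F := F) 2 two_ne_zero d hd
  refine ⟨WordEmb.reidx finSumFinEquiv (gl2 A), ?_⟩
  rw [orderOf_injective _ (WordEmb.reidx_injective _), orderOf_injective _ gl2_injective, hA]

/-- for `u > 3` some divisor of `u ^ 2 - 1` is `16` or `8 r` -/
theorem exists_divisor {u : ℕ} (hu : Odd u) (h3 : 3 < u) :
    ∃ d, d ∣ u ^ 2 - 1 ∧ (d = 16 ∨ ∃ r, r.Prime ∧ r ≠ 2 ∧ d = 8 * r) := by
  obtain ⟨k, hk⟩ := eight_dvd hu
  have hk1 : k ≠ 1 := by
    rintro rfl
    have : 16 ≤ u ^ 2 := by nlinarith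
    omega
  obtain ⟨r, hr, hrk⟩ := Nat.exists_prime_and_dvd hk1
  obtain ⟨c, rfl⟩ := hrk
  refine ⟨8 * r, ⟨c, by rw [hk, mul_assoc]⟩, ?_⟩
  by_cases h2 : r = 2
  · left; rw [h2]
  · right; exact ⟨r, hr, h2, rfl⟩

end Linear

/-! ### the three types -/

section Types

variable {F : Type*} [Field F]

theorem leviMat_mulVec (m : ℕ) (A : Matrix.SpecialLinearGroup (Fin m) F) (a b : Fin m → F) :
    WordEmb.leviMat m A *ᵥ Sum.elim a b = Sum.elim (A.1 *ᵥ a) ((A⁻¹).1ᵀ *ᵥ b) := by
  change fromBlocks A.1 0 0 (A⁻¹).1ᵀ *ᵥ Sum.elim a b = _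
  rw [Matrix.fromBlocks_mulVec]
  simp

/-- plus type -/
def thPlus (c : ℕ) : Matrix.SpecialLinearGroup (Fin 3) F →*
    Cfsg.isometryGroup F (⇑(LieClassical.OrthForms.plusForm (3 + c) F)) :=
  WordEmb.toIso _ ((WordEmb.leviMat (3 + c)).comp (emb c)) (by
    intro x v
    rw [LieClassical.OrthForms.coe_plusForm]
    exact WordEmb.levi_plus' (3 + c) (emb c x) v)

theorem thPlus_injective (c : ℕ) : Function.Injective (thPlus (F := F) c) :=
  WordEmb.toIso_injective _ _ _ ((WordEmb.leviMat_injective _).comp (emb_injective c))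

theorem act_thPlus (c : ℕ) (A : Matrix.SpecialLinearGroup (Fin 3) F) (j : Fin c) (s t : F) :
    act (thPlus c A) (Sum.elim (Pi.single (finSumFinEquiv (Sum.inr j)) s)
      (Pi.single (finSumFinEquiv (Sum.inr j)) t)) =
    Sum.elim (Pi.single (finSumFinEquiv (Sum.inr j)) s)
      (Pi.single (finSumFinEquiv (Sum.inr j)) t) := by
  change WordEmb.leviMat (3 + c) (emb c A) *ᵥ _ = _
  rw [leviMat_mulVec]
  have h : ∀ (s : F), (Pi.single (finSumFinEquiv (Sum.inr j)) s : Fin (3 + c) → F) =
      s • Pi.single (finSumFinEquiv (Sum.inr j)) 1 := by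
    intro s
    rw [← Pi.single_smul, smul_eq_mul, mul_one]
  rw [h s, h t, Matrix.mulVec_smul, Matrix.mulVec_smul, emb_col, emb_row]

/-- odd type -/
def thOdd (c : ℕ) : Matrix.SpecialLinearGroup (Fin 3) F →*
    Cfsg.isometryGroup F (⇑(LieClassical.OrthForms.oddForm (3 + c) F)) :=
  WordEmb.toIso _ (((WordEmb.blockR Unit (Fin (3 + c) ⊕ Fin (3 + c))).comp
      (WordEmb.leviMat (3 + c))).comp (emb c)) (by
    intro x v
    rw [LieClassical.OrthForms.coe_oddForm]
    change Cfsg.quadFormOdd (3 + c) F (fromBlocks 1 0 0 (WordEmb.leviMat (3 + c) (emb c x)) *ᵥ v) = _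
    rw [fromBlocks_mulVec]
    have h := WordEmb.levi_plus' (3 + c) (emb c x) (v ∘ Sum.inr)
    simp only [Cfsg.quadFormPlus] at h
    simp only [Cfsg.quadFormOdd, Sum.elim_inl, Sum.elim_inr, Matrix.zero_mulVec, add_zero, zero_add,
      one_mulVec, h, Function.comp])

theorem thOdd_injective (c : ℕ) : Function.Injective (thOdd (F := F) c) :=
  WordEmb.toIso_injective _ _ _ (((WordEmb.blockR_injective _ _).comp
    (WordEmb.leviMat_injective _)).comp (emb_injective c))

theorem act_thOdd (c : ℕ) (A : Matrix.SpecialLinearGroup (Fin 3) F) (a : Unit → F)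
    (b : Fin (3 + c) ⊕ Fin (3 + c) → F) :
    act (thOdd c A) (Sum.elim a b) = Sum.elim a (act (thPlus c A) b) := by
  change fromBlocks 1 0 0 (WordEmb.leviMat (3 + c) (emb c A)) *ᵥ _ = _
  rw [fromBlocks_mulVec]
  simp only [Sum.elim_comp_inl, Sum.elim_comp_inr, Matrix.one_mulVec, Matrix.zero_mulVec, add_zero,
    zero_add]
  rfl

/-- minus type -/
def thMinus (c : ℕ) (a b : F) : Matrix.SpecialLinearGroup (Fin 3) F →*
    Cfsg.isometryGroup F (⇑(LieClassical.OrthForms.minusForm (3 + c) F a b)) :=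
  WordEmb.toIso _ (((WordEmb.blockL (Fin 2) (Fin (3 + c) ⊕ Fin (3 + c))).comp
      (WordEmb.leviMat (3 + c))).comp (emb c)) (by
    intro x v
    rw [LieClassical.OrthForms.coe_minusForm]
    change Cfsg.quadFormMinus (3 + c) F a b
      (fromBlocks (WordEmb.leviMat (3 + c) (emb c x)) 0 0 1 *ᵥ v) = _
    rw [fromBlocks_mulVec]
    have h := WordEmb.levi_plus' (3 + c) (emb c x) (v ∘ Sum.inl)
    simp only [Cfsg.quadFormPlus] at h
    simp only [Cfsg.quadFormMinus, Sum.elim_inl, Sum.elim_inr, Matrix.zero_mulVec, add_zero,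
      zero_add, one_mulVec, h, Function.comp])

theorem thMinus_injective (c : ℕ) (a b : F) : Function.Injective (thMinus (F := F) c a b) :=
  WordEmb.toIso_injective _ _ _ (((WordEmb.blockL_injective _ _).comp
    (WordEmb.leviMat_injective _)).comp (emb_injective c))

theorem act_thMinus (c : ℕ) (a b : F) (A : Matrix.SpecialLinearGroup (Fin 3) F) (x : Fin 2 → F)
    (y : Fin (3 + c) ⊕ Fin (3 + c) → F) :
    act (thMinus c a b A) (Sum.elim y x) = Sum.elim (act (thPlus c A) y) x := by
  change fromBlocks (WordEmb.leviMat (3 + c) (emb c A)) 0 0 1 *ᵥ _ = _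
  rw [fromBlocks_mulVec]
  simp only [Sum.elim_comp_inl, Sum.elim_comp_inr, Matrix.one_mulVec, Matrix.zero_mulVec, add_zero,
    zero_add]
  rfl

theorem mem_omega {ι : Type} [Fintype ι] [DecidableEq ι] {Q : (ι → F) → F}
    (φ : Matrix.SpecialLinearGroup (Fin 3) F →* Cfsg.isometryGroup F Q)
    (x : Matrix.SpecialLinearGroup (Fin 3) F) : φ x ∈ Cfsg.Omega F Q := by
  have hx : φ x ∈ (commutator (Matrix.SpecialLinearGroup (Fin 3) F)).map φ :=
    ⟨x, by rw [LieClassical.SLGen.commutator_eq_top (by simp)]; trivial, rfl⟩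
  rw [commutator_def, Subgroup.map_commutator] at hx
  exact Subgroup.commutator_mono le_top le_top hx

end Types

section Final

variable (F : Type*) [Field F] [Fintype F]

open LieClassical.OrthForms in
/-- **Plus type** -/
theorem exists_plus (hF : Odd (Fintype.card F)) (m : ℕ) (hm : 4 ≤ m)
    (hm3 : m = 4 → 3 < Fintype.card F) :
    ∃ x : Cfsg.POmega F (Cfsg.quadFormPlus m F), orderOf x = 16 ∨
      ∃ r : ℕ, r.Prime ∧ r ≠ 2 ∧ orderOf x = 8 * r := by
  classical
  obtain ⟨c, rfl⟩ := Nat.exists_eq_add_of_le (show 3 ≤ m by omega)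
  obtain ⟨p, hp, hp2, _, h2, hpF⟩ := exists_char hF
  rw [← coe_plusForm (3 + c) F]
  have hQ : (polarBilin (plusForm (3 + c) F)).Nondegenerate :=
    LieClassical.OmegaReindex.nondegenerate_of_left _ (fun x hx => nondeg_plusForm (3 + c) F x hx)
  have hn : 3 ≤ Fintype.card (Fin (3 + c) ⊕ Fin (3 + c)) := by
    simp only [Fintype.card_sum, Fintype.card_fin]; omega
  let j : Fin c := ⟨0, by omega⟩
  let e : Fin c → Fin (3 + c) := fun i => finSumFinEquiv (Sum.inr i)
  let u : Fin (3 + c) ⊕ Fin (3 + c) → F := Sum.elim (Pi.single (e j) 1) 0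
  have hu0 : u ≠ 0 := by
    intro h
    have := congrFun h (Sum.inl (e j))
    simp [u] at this
  have hu : plusForm (3 + c) F u = 0 := by
    rw [coe_plusForm, quadFormPlus_apply]
    simp [u]
  have hfix : ∀ A, act (thPlus c A) u = u := by
    intro A
    have := act_thPlus c A j 1 0
    rwa [Pi.single_zero] at this
  by_cases hc : 2 ≤ c
  · obtain ⟨A, hA⟩ := exists_SL_three (F := F) (d := 8)
      (by rw [Nat.card_eq_fintype_card]; exact eight_dvd hF)
    let j' : Fin c := ⟨1, hc⟩
    let v : Fin (3 + c) ⊕ Fin (3 + c) → F := Sum.elim (Pi.single (e j') 1) (Pi.single (e j') 1)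
    have hjj : e j' ≠ e j := by
      intro h
      have h1 := Sum.inr_injective (finSumFinEquiv.injective h)
      have h2 := congrArg Fin.val h1
      change 1 = 0 at h2
      omega
    obtain ⟨y, hy⟩ := transfer8 hp hp2 h2 _ hQ hn (thPlus c A) (mem_omega _ A)
      (by rw [orderOf_injective _ (thPlus_injective c), hA]) u v hu0 hu
      (by
        rw [polar_plusForm]
        apply Finset.sum_eq_zero
        intro i _
        simp only [u, v, Sum.elim_inl, Sum.elim_inr, Pi.zero_apply, mul_zero, add_zero]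
        by_cases h : i = e j
        · rw [h, Pi.single_eq_of_ne' hjj, mul_zero]
        · rw [Pi.single_eq_of_ne h, zero_mul])
      (by
        rw [coe_plusForm, quadFormPlus_apply]
        simp only [v, Sum.elim_inl, Sum.elim_inr]
        rw [Finset.sum_eq_single (e j')]
        · simp
        · intro b _ hb
          rw [Pi.single_eq_of_ne hb, zero_mul]
        · simp)
      (hfix A) (act_thPlus c A j' 1 1)
    exact ⟨y, Or.inr ⟨p, hp, hp2, hy⟩⟩
  · obtain ⟨d, hd, hd'⟩ := exists_divisor hF (hm3 (by omega))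
    obtain ⟨A, hA⟩ := exists_SL_three (F := F) (d := d)
      (by rw [Nat.card_eq_fintype_card]; exact hd)
    obtain ⟨y, hy⟩ := transfer h2 _ hQ hn ⟨u, hu0, hu⟩ (thPlus c A) (mem_omega _ A) u hu0 (hfix A)
    refine ⟨y, ?_⟩
    rw [hy, orderOf_injective _ (thPlus_injective c), hA]
    exact hd'

open LieClassical.OrthForms in
/-- **Odd dimension** -/
theorem exists_odd (hF : Odd (Fintype.card F)) (m : ℕ) (hm : 3 ≤ m)
    (hm3 : m = 3 → 3 < Fintype.card F) :
    ∃ x : Cfsg.POmega F (Cfsg.quadFormOdd m F), orderOf x = 16 ∨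
      ∃ r : ℕ, r.Prime ∧ r ≠ 2 ∧ orderOf x = 8 * r := by
  classical
  obtain ⟨c, rfl⟩ := Nat.exists_eq_add_of_le hm
  obtain ⟨p, hp, hp2, _, h2, hpF⟩ := exists_char hF
  rw [← coe_oddForm (3 + c) F]
  have hQ : (polarBilin (oddForm (3 + c) F)).Nondegenerate :=
    LieClassical.OmegaReindex.nondegenerate_of_left _ (fun x hx => nondeg_oddForm (3 + c) F h2 x hx)
  have hn : 3 ≤ Fintype.card (Unit ⊕ (Fin (3 + c) ⊕ Fin (3 + c))) := by
    simp only [Fintype.card_sum, Fintype.card_fin, Fintype.card_unit]; omega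
  let v : Unit ⊕ (Fin (3 + c) ⊕ Fin (3 + c)) → F := Sum.elim (fun _ => 1) 0
  have hv0 : v ≠ 0 := by
    intro h
    have := congrFun h (Sum.inl ())
    simp [v] at this
  have hv : oddForm (3 + c) F v = 1 := by
    rw [coe_oddForm, quadFormOdd_apply]
    simp [v]
  have hfix : ∀ A, act (thOdd c A) v = v := by
    intro A
    rw [act_thOdd]
    congr 1
    exact Matrix.mulVec_zero _
  by_cases hc : 1 ≤ c
  · obtain ⟨A, hA⟩ := exists_SL_three (F := F) (d := 8)
      (by rw [Nat.card_eq_fintype_card]; exact eight_dvd hF)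
    let j : Fin c := ⟨0, hc⟩
    let e : Fin c → Fin (3 + c) := fun i => finSumFinEquiv (Sum.inr i)
    let u : Unit ⊕ (Fin (3 + c) ⊕ Fin (3 + c)) → F :=
      Sum.elim 0 (Sum.elim (Pi.single (e j) 1) 0)
    have hu0 : u ≠ 0 := by
      intro h
      have := congrFun h (Sum.inr (Sum.inl (e j)))
      simp [u] at this
    obtain ⟨y, hy⟩ := transfer8 hp hp2 h2 _ hQ hn (thOdd c A) (mem_omega _ A)
      (by rw [orderOf_injective _ (thOdd_injective c), hA]) u v hu0
      (by
        rw [coe_oddForm, quadFormOdd_apply]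
        simp [u])
      (by
        rw [polar_oddForm]
        simp [u, v])
      (by rw [hv]; exact one_ne_zero)
      (by
        rw [act_thOdd]
        congr 1
        have := act_thPlus c A j 1 0
        rwa [Pi.single_zero] at this) (hfix A)
    exact ⟨y, Or.inr ⟨p, hp, hp2, hy⟩⟩
  · obtain ⟨d, hd, hd'⟩ := exists_divisor hF (hm3 (by omega))
    obtain ⟨A, hA⟩ := exists_SL_three (F := F) (d := d)
      (by rw [Nat.card_eq_fintype_card]; exact hd)
    let w : Unit ⊕ (Fin (3 + c) ⊕ Fin (3 + c)) → F :=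
      Sum.elim 0 (Sum.elim (Pi.single ⟨0, by omega⟩ 1) 0)
    obtain ⟨y, hy⟩ := transfer h2 _ hQ hn ⟨w, by
        intro h
        have := congrFun h (Sum.inr (Sum.inl ⟨0, by omega⟩))
        simp [w] at this, by
        rw [coe_oddForm, quadFormOdd_apply]
        simp [w]⟩ (thOdd c A) (mem_omega _ A) v hv0 (hfix A)
    refine ⟨y, ?_⟩
    rw [hy, orderOf_injective _ (thOdd_injective c), hA]
    exact hd'

open LieClassical.OrthForms in
/-- **Minus type** (the form `quadFormMinus m`, dimension `2 m + 2`) -/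
theorem exists_minus (hF : Odd (Fintype.card F)) (m : ℕ) (hm : 3 ≤ m) (a b : F)
    (hab : ∀ z₁ z₂ : F, z₁ ^ 2 + a * z₁ * z₂ + b * z₂ ^ 2 = 0 → z₁ = 0 ∧ z₂ = 0)
    (hm3 : m = 3 → 3 < Fintype.card F) :
    ∃ x : Cfsg.POmega F (Cfsg.quadFormMinus m F a b), orderOf x = 16 ∨
      ∃ r : ℕ, r.Prime ∧ r ≠ 2 ∧ orderOf x = 8 * r := by
  classical
  obtain ⟨c, rfl⟩ := Nat.exists_eq_add_of_le hm
  obtain ⟨p, hp, hp2, _, h2, hpF⟩ := exists_char hF
  rw [← coe_minusForm (3 + c) F a b]
  have hQ : (polarBilin (minusForm (3 + c) F a b)).Nondegenerate :=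
    LieClassical.OmegaReindex.nondegenerate_of_left _
      (fun x hx => nondeg_minusForm (3 + c) F a b hab x hx)
  have hn : 3 ≤ Fintype.card ((Fin (3 + c) ⊕ Fin (3 + c)) ⊕ Fin 2) := by
    simp only [Fintype.card_sum, Fintype.card_fin]; omega
  let v : (Fin (3 + c) ⊕ Fin (3 + c)) ⊕ Fin 2 → F := Sum.elim 0 (Pi.single 0 1)
  have hv0 : v ≠ 0 := by
    intro h
    have := congrFun h (Sum.inr 0)
    simp [v] at this
  have hv : minusForm (3 + c) F a b v = 1 := by
    rw [coe_minusForm, quadFormMinus_apply]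
    simp [v]
  have hfix : ∀ A, act (thMinus c a b A) v = v := by
    intro A
    rw [act_thMinus]
    congr 1
    exact Matrix.mulVec_zero _
  by_cases hc : 1 ≤ c
  · obtain ⟨A, hA⟩ := exists_SL_three (F := F) (d := 8)
      (by rw [Nat.card_eq_fintype_card]; exact eight_dvd hF)
    let j : Fin c := ⟨0, hc⟩
    let e : Fin c → Fin (3 + c) := fun i => finSumFinEquiv (Sum.inr i)
    let u : (Fin (3 + c) ⊕ Fin (3 + c)) ⊕ Fin 2 → F :=
      Sum.elim (Sum.elim (Pi.single (e j) 1) 0) 0
    have hu0 : u ≠ 0 := by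
      intro h
      have := congrFun h (Sum.inl (Sum.inl (e j)))
      simp [u] at this
    obtain ⟨y, hy⟩ := transfer8 hp hp2 h2 _ hQ hn (thMinus c a b A) (mem_omega _ A)
      (by rw [orderOf_injective _ (thMinus_injective c a b), hA]) u v hu0
      (by
        rw [coe_minusForm, quadFormMinus_apply]
        simp [u])
      (by
        rw [polar_minusForm]
        simp [u, v])
      (by rw [hv]; exact one_ne_zero)
      (by
        rw [act_thMinus]
        congr 1
        have := act_thPlus c A j 1 0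
        rwa [Pi.single_zero] at this) (hfix A)
    exact ⟨y, Or.inr ⟨p, hp, hp2, hy⟩⟩
  · obtain ⟨d, hd, hd'⟩ := exists_divisor hF (hm3 (by omega))
    obtain ⟨A, hA⟩ := exists_SL_three (F := F) (d := d)
      (by rw [Nat.card_eq_fintype_card]; exact hd)
    let w : (Fin (3 + c) ⊕ Fin (3 + c)) ⊕ Fin 2 → F :=
      Sum.elim (Sum.elim (Pi.single ⟨0, by omega⟩ 1) 0) 0
    obtain ⟨y, hy⟩ := transfer h2 _ hQ hn ⟨w, by
        intro h
        have := congrFun h (Sum.inl (Sum.inl ⟨0, by omega⟩))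
        simp [w] at this, by
        rw [coe_minusForm, quadFormMinus_apply]
        simp [w]⟩ (thMinus c a b A) (mem_omega _ A) v hv0 (hfix A)
    refine ⟨y, ?_⟩
    rw [hy, orderOf_injective _ (thMinus_injective c a b), hA]
    exact hd'

end Final

end Cfsg.Agent.H376.Odd8
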