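import Cfsg.Agent.H376.CocPsl
import Cfsg.Agent.S2468
import Cfsg.Agent.Lib.Zsigmondy
import Mathlib

/-!
# Cocliques of `L = PSL_N(q)`, from below

`q = |F|` is odd here (only `q ≥ 3` is used for the Zsigmondy primes).

* `Good q x`: `x` is an odd prime, prime to `q`, with `q` of order at least 2 modulo `x`;
* `dvd_iff`: a good prime divides `|PSL_N(q)|` iff the order of `q` modulo it is at most `N`;
* `not_adj`: non-adjacency;
* `exists_thr`: through each good `x` with `k = ord_x(q) ≤ N` there is a coclique with `min k (N - N / 2)`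
  members, all good.
-/

set_option autoImplicit false

namespace Cfsg.Agent.H376.LPsl

open Finset Cfsg.Agent.H376.Coc

/-- the primes of positive dimension -/
structure Good (q x : ℕ) : Prop where
  prime : x.Prime
  odd : x ≠ 2
  cop : ¬ x ∣ q
  ord : 2 ≤ orderOf ((q : ℕ) : ZMod x)

/-- Zsigmondy primes -/
theorem exists_good {q k : ℕ} (hq : 3 ≤ q) (hk : 3 ≤ k) :
    ∃ z, Good q z ∧ orderOf ((q : ℕ) : ZMod z) = k := by
  obtain ⟨r, hr, hord⟩ := Lib.Zsigmondy.exists_prime_orderOf (a := q) (n := k) (by omega) (by omega)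
    (by omega) (by omega)
  have hnd : ¬ r ∣ q := by
    intro h
    have h1 : ((q : ℕ) : ZMod r) = 0 := (ZMod.natCast_eq_zero_iff _ _).2 h
    have := Fact.mk hr
    rw [h1, orderOf_eq_zero] at hord
    · omega
    · rw [isOfFinOrder_iff_pow_eq_one]
      rintro ⟨n, hn, h2⟩
      rw [zero_pow (by omega)] at h2
      exact zero_ne_one h2
  refine ⟨r, ⟨hr, ?_, hnd, by omega⟩, hord⟩
  rintro rfl
  have h2 : ∀ z : ZMod 2, z = 0 ∨ z = 1 := by decide
  rcases h2 ((q : ℕ) : ZMod 2) with h | h
  · exact hnd ((ZMod.natCast_eq_zero_iff _ _).1 h)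
  · rw [h, orderOf_one] at hord; omega

section

variable {F : Type*} [Field F] [Fintype F] {q : ℕ}

theorem dvd_iff (hF : Fintype.card F = q) {N x : ℕ} (hN : 2 ≤ N) (hx : Good q x) :
    x ∣ Nat.card (Matrix.ProjectiveSpecialLinearGroup (Fin N) F) ↔
      orderOf ((q : ℕ) : ZMod x) ≤ N := by
  subst hF
  have hq1 : 1 ≤ Fintype.card F := Fintype.card_pos
  have := Fact.mk hx.prime
  constructor
  · intro h
    rcases psl_dvd hx.prime (by omega) h with h | ⟨j, hj1, hjN, hj⟩
    · exact absurd h hx.cop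
    · exact (Nat.le_of_dvd (by omega) ((ord_dvd_iff hq1).2 hj)).trans hjN
  · intro h
    have h1 : x ∣ Nat.card (Matrix.SpecialLinearGroup (Fin N) F) := by
      refine sl_dvd hN hx.prime (Or.inr ⟨_, by have := hx.ord; omega, h, (ord_dvd_iff hq1).1 dvd_rfl⟩)
    obtain ⟨A, hA⟩ := exists_prime_orderOf_dvd_card' x h1
    have hc := S2468.cop hx.prime hx.ord
    have h2 := PrimeOrd.orderOf_mk (Subgroup.center (Matrix.SpecialLinearGroup (Fin N) F))
      (fun y hy => S2468.center_pow y hy) hc A hA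
    have h3 := orderOf_dvd_natCard (QuotientGroup.mk A :
      Matrix.SpecialLinearGroup (Fin N) F ⧸ Subgroup.center (Matrix.SpecialLinearGroup (Fin N) F))
    rw [h2] at h3
    exact h3

theorem not_adj (hF : Fintype.card F = q) {N x y : ℕ} (hN : 3 ≤ N) (hx : Good q x)
    (hy : Good q y) (hxN : orderOf ((q : ℕ) : ZMod x) ≤ N) (hyN : orderOf ((q : ℕ) : ZMod y) ≤ N)
    (hlt : orderOf ((q : ℕ) : ZMod x) < orderOf ((q : ℕ) : ZMod y))
    (hsum : N < orderOf ((q : ℕ) : ZMod x) + orderOf ((q : ℕ) : ZMod y))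
    (hnd : ¬ orderOf ((q : ℕ) : ZMod x) ∣ orderOf ((q : ℕ) : ZMod y)) :
    ¬ ∃ g : Matrix.ProjectiveSpecialLinearGroup (Fin N) F, orderOf g = x * y := by
  subst hF
  obtain ⟨p, hc⟩ := CharP.exists F
  have hp : Fact p.Prime := ⟨CharP.char_is_prime F p⟩
  have hpF : p ∣ Fintype.card F := by
    obtain ⟨m, _, hm⟩ := FiniteField.card F p
    rw [hm]
    exact dvd_pow_self p m.ne_zero
  have hxp : x ≠ p := fun h => hx.cop (h ▸ hpF)
  have hyp : y ≠ p := fun h => hy.cop (h ▸ hpF)
  have hne : x ≠ y := by rintro rfl; exact lt_irrefl _ hlt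
  exact (S2468.result p N (by omega) (by omega) x y hx.prime hy.prime hx.odd hy.odd hxp hyp hne
    ((dvd_iff rfl (by omega) hx).2 hxN) ((dvd_iff rfl (by omega) hy).2 hyN) _ _ rfl rfl hx.ord
    hlt.le).2 ⟨hsum, hnd⟩

/-- **Cocliques through a good prime** -/
theorem exists_thr (hF : Fintype.card F = q) (hq : 3 ≤ q) {N x : ℕ} (hN : 4 ≤ N)
    (hx : Good q x) (hxN : orderOf ((q : ℕ) : ZMod x) ≤ N) :
    ∃ C : Finset ℕ, IsCoc (Matrix.ProjectiveSpecialLinearGroup (Fin N) F) C ∧ x ∈ C ∧
      C.card = min (orderOf ((q : ℕ) : ZMod x)) (N - N / 2) ∧ (∀ s ∈ C, Good q s) ∧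
      ∀ s ∈ C, s ≠ x → N / 2 < orderOf ((q : ℕ) : ZMod s) ∧ orderOf ((q : ℕ) : ZMod s) ≤ N := by
  classical
  set k := orderOf ((q : ℕ) : ZMod x) with hk
  have hk2 := hx.ord
  rw [← hk] at hk2
  have hz : ∀ j : ℕ, ∃ z, 3 ≤ j → Good q z ∧ orderOf ((q : ℕ) : ZMod z) = j := by
    intro j
    by_cases h : 3 ≤ j
    · obtain ⟨z, hz⟩ := exists_good hq h
      exact ⟨z, fun _ => hz⟩
    · exact ⟨0, fun h' => absurd h' h⟩
  choose z hz using hz
  -- the index set
  set J : Finset ℕ := (Ioc (max (N - k) (N / 2)) N).filter fun j => ¬ k ∣ j with hJ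
  have hJmem : ∀ j ∈ J, N - k < j ∧ N / 2 < j ∧ j ≤ N ∧ ¬ k ∣ j := by
    intro j hj
    rw [hJ, mem_filter, mem_Ioc, max_lt_iff] at hj
    exact ⟨hj.1.1.1, hj.1.1.2, hj.1.2, hj.2⟩
  have hJ3 : ∀ j ∈ J, 3 ≤ j := fun j hj => by have := hJmem j hj; omega
  have hzord : ∀ j ∈ J, orderOf ((q : ℕ) : ZMod (z j)) = j := fun j hj => (hz j (hJ3 j hj)).2
  have hxz : ∀ j ∈ J, x ≠ z j := by
    intro j hj h
    have h1 := hzord j hj
    rw [← h, ← hk] at h1
    exact (hJmem j hj).2.2.2 (h1 ▸ dvd_rfl)
  have hinj : Set.InjOn z J := by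
    intro i hi j hj h
    have h1 := hzord i hi
    rw [h, hzord j hj] at h1
    exact h1.symm
  have hJcard : J.card + 1 = min k (N - N / 2) := by
    rcases le_or_gt k (N / 2) with hle | hlt
    · have h1 : max (N - k) (N / 2) = N - k := max_eq_left (by omega)
      have h2 : J.card + ((Ioc (N - k) N).filter fun j => k ∣ j).card = k := by
        rw [hJ, h1, add_comm, card_filter_add_card_filter_not, Nat.card_Ioc]
        omega
      have h3 : ((Ioc (N - k) N).filter fun j => k ∣ j).card = 1 := by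
        rw [card_eq_one]
        refine ⟨k * (N / k), ?_⟩
        ext j
        rw [mem_filter, mem_Ioc, mem_singleton]
        have h4 := Nat.div_add_mod N k
        have h5 := Nat.mod_lt N (show 0 < k by omega)
        constructor
        · rintro ⟨⟨h6, h7⟩, c, rfl⟩
          congr 1
          have h8 : c ≤ N / k := (Nat.le_div_iff_mul_le (by omega)).2 (by rw [mul_comm]; exact h7)
          refine le_antisymm h8 ?_
          by_contra hc
          have h9 : c + 1 ≤ N / k := by omega
          have h10 : k * (c + 1) ≤ k * (N / k) := Nat.mul_le_mul_left _ h9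
          rw [mul_add, mul_one] at h10
          omega
        · rintro rfl
          exact ⟨⟨by omega, by omega⟩, dvd_mul_right _ _⟩
      rw [min_eq_left (by omega)]
      omega
    · have h1 : max (N - k) (N / 2) = N / 2 := max_eq_right (by omega)
      have h2 : J = (Ioc (N / 2) N).erase k := by
        rw [hJ, h1]
        ext j
        rw [mem_filter, mem_erase, mem_Ioc]
        constructor
        · rintro ⟨h3, h4⟩
          exact ⟨fun h => h4 (h ▸ dvd_rfl), h3⟩
        · rintro ⟨h3, h4⟩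
          refine ⟨h4, fun ⟨c, hc⟩ => ?_⟩
          rcases c with _ | _ | c
          · omega
          · omega
          · have : k * 2 ≤ k * (c + 1 + 1) := Nat.mul_le_mul_left _ (by omega)
            omega
      rw [h2, card_erase_of_mem (mem_Ioc.2 ⟨hlt, hxN⟩), Nat.card_Ioc, min_eq_right (by omega)]
      omega
  refine ⟨insert x (J.image z), ⟨?_, ?_, ?_⟩, mem_insert_self _ _, ?_, ?_, ?_⟩
  · intro p hp
    rcases mem_insert.1 hp with rfl | hp
    · exact hx.prime
    · obtain ⟨j, hj, rfl⟩ := mem_image.1 hp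
      exact (hz j (hJ3 j hj)).1.prime
  · intro p hp
    rcases mem_insert.1 hp with rfl | hp
    · exact (dvd_iff hF (by omega) hx).2 hxN
    · obtain ⟨j, hj, rfl⟩ := mem_image.1 hp
      refine (dvd_iff hF (by omega) (hz j (hJ3 j hj)).1).2 ?_
      rw [hzord j hj]
      exact (hJmem j hj).2.2.1
  · have key : ∀ j ∈ J, ¬ ∃ g : Matrix.ProjectiveSpecialLinearGroup (Fin N) F,
        orderOf g = x * z j := by
      intro j hj
      have hm := hJmem j hj
      rcases lt_trichotomy k j with h | h | h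
      · refine not_adj hF (by omega) hx (hz j (hJ3 j hj)).1 hxN ?_ ?_ ?_ ?_
        · rw [hzord j hj]; exact hm.2.2.1
        · rw [hzord j hj, ← hk]; exact h
        · rw [hzord j hj, ← hk]; omega
        · rw [hzord j hj, ← hk]; exact hm.2.2.2
      · exact absurd (h ▸ dvd_rfl) hm.2.2.2
      · rw [mul_comm]
        refine not_adj hF (by omega) (hz j (hJ3 j hj)).1 hx ?_ hxN ?_ ?_ ?_
        · rw [hzord j hj]; exact hm.2.2.1
        · rw [hzord j hj, ← hk]; exact h
        · rw [hzord j hj, ← hk]; omega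
        · rw [hzord j hj, ← hk]
          rintro ⟨c, hc⟩
          rcases c with _ | _ | c
          · omega
          · omega
          · have : j * 2 ≤ j * (c + 1 + 1) := Nat.mul_le_mul_left _ (by omega)
            omega
    have key2 : ∀ i ∈ J, ∀ j ∈ J, i < j → ¬ ∃ g : Matrix.ProjectiveSpecialLinearGroup (Fin N) F,
        orderOf g = z i * z j := by
      intro i hi j hj hij
      have hmi := hJmem i hi
      have hmj := hJmem j hj
      refine not_adj hF (by omega) (hz i (hJ3 i hi)).1 (hz j (hJ3 j hj)).1 ?_ ?_ ?_ ?_ ?_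
      · rw [hzord i hi]; exact hmi.2.2.1
      · rw [hzord j hj]; exact hmj.2.2.1
      · rw [hzord i hi, hzord j hj]; exact hij
      · rw [hzord i hi, hzord j hj]; omega
      · rw [hzord i hi, hzord j hj]
        rintro ⟨c, hc⟩
        rcases c with _ | _ | c
        · omega
        · omega
        · have : i * 2 ≤ i * (c + 1 + 1) := Nat.mul_le_mul_left _ (by omega)
          omega
    intro s hs t ht hst
    rcases mem_insert.1 hs with rfl | hs
    · rcases mem_insert.1 ht with rfl | ht
      · exact absurd rfl hst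
      · obtain ⟨j, hj, rfl⟩ := mem_image.1 ht
        exact key j hj
    · obtain ⟨i, hi, rfl⟩ := mem_image.1 hs
      rcases mem_insert.1 ht with rfl | ht
      · rw [mul_comm]; exact key i hi
      · obtain ⟨j, hj, rfl⟩ := mem_image.1 ht
        rcases lt_trichotomy i j with h | h | h
        · exact key2 i hi j hj h
        · subst h; exact absurd rfl hst
        · rw [mul_comm]; exact key2 j hj i hi h
  · rw [card_insert_of_notMem, card_image_of_injOn hinj, hJcard]
    intro h
    obtain ⟨j, hj, h1⟩ := mem_image.1 h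
    exact hxz j hj h1.symm
  · intro s hs
    rcases mem_insert.1 hs with rfl | hs
    · exact hx
    · obtain ⟨j, hj, rfl⟩ := mem_image.1 hs
      exact (hz j (hJ3 j hj)).1
  · intro s hs hsx
    rcases mem_insert.1 hs with rfl | hs
    · exact absurd rfl hsx
    · obtain ⟨j, hj, rfl⟩ := mem_image.1 hs
      rw [hzord j hj]
      exact ⟨(hJmem j hj).2.1, (hJmem j hj).2.2.1⟩

end

end Cfsg.Agent.H376.LPsl
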