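import Cfsg.Agent.H376.Coc
import Cfsg.Agent.S2468
import Cfsg.Agent.S0242
import Cfsg.Agent.ClassicalGeometry.PSL2Basic
import Mathlib

/-!
# Cocliques in the prime graph of `PSL_n(q)`

* `psl_coclique`: `x ∈ C`, `x ∣ |SL_a(q)|`, `a + 2 ≤ n` : `|C| ≤ a + 1`;
* `psl_coclique_gen`: `4 ≤ n` : `|C| ≤ 1 + (n - n / 2)`.
-/

set_option autoImplicit false

namespace Cfsg.Agent.H376.Coc

open Matrix

variable {F : Type*} [Field F] [Fintype F]

omit [Fintype F] in
theorem card_SL_dvd {a b : ℕ} (h : a ≤ b) : Nat.card (Matrix.SpecialLinearGroup (Fin a) F) ∣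
    Nat.card (Matrix.SpecialLinearGroup (Fin b) F) := by
  obtain ⟨φ, hφ, _⟩ := exists_phi (F := F) (a := a) (b := 0) (n := b) (by omega)
  have h1 : Function.Injective (φ.comp (MonoidHom.inl _ _)) := by
    intro x y hxy
    exact congrArg Prod.fst (hφ hxy)
  exact Subgroup.card_dvd_of_injective _ h1

/-- primes dividing `|SL_b(q)|` -/
theorem sl_dvd {b s : ℕ} (hb : 2 ≤ b) (hs : s.Prime)
    (h : s ∣ Fintype.card F ∨ ∃ j, 1 ≤ j ∧ j ≤ b ∧ s ∣ Fintype.card F ^ j - 1) :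
    s ∣ Nat.card (Matrix.SpecialLinearGroup (Fin b) F) := by
  have hq1 : 1 ≤ Fintype.card F := Fintype.card_pos
  by_cases h2 : s ∣ Fintype.card F * (Fintype.card F ^ 2 - 1)
  · refine Dvd.dvd.trans ?_ (card_SL_dvd (F := F) hb)
    rw [ClassicalGeometry.PSL2Basic.card_SL2]
    exact h2
  · obtain ⟨j, hj1, hjb, hj⟩ := h.resolve_left (fun h => h2 (h.mul_right _))
    have he : orderOf ((Fintype.card F : ℕ) : ZMod s) ∣ j := (ord_dvd_iff hq1).2 hj
    have he1 : orderOf ((Fintype.card F : ℕ) : ZMod s) ≤ j := Nat.le_of_dvd (by omega) he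
    have hepos : orderOf ((Fintype.card F : ℕ) : ZMod s) ≠ 0 := by
      intro h0; rw [h0] at he; have := Nat.eq_zero_of_zero_dvd he; omega
    have he2 : 2 ≤ orderOf ((Fintype.card F : ℕ) : ZMod s) := by
      by_contra hlt
      have h3 : orderOf ((Fintype.card F : ℕ) : ZMod s) ∣ 2 := by
        have : orderOf ((Fintype.card F : ℕ) : ZMod s) = 1 := by omega
        rw [this]; exact one_dvd _
      exact h2 (((ord_dvd_iff hq1).1 h3).mul_left _)
    obtain ⟨A, hA⟩ := PrimeOrd.exists_SL (F := F) _ hepos s (by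
      rw [Nat.card_eq_fintype_card]; exact (ord_dvd_iff hq1).1 dvd_rfl) (S2468.cop hs he2)
    refine Dvd.dvd.trans ?_ (card_SL_dvd (F := F) (he1.trans hjb))
    have h4 := orderOf_dvd_natCard A
    rw [hA] at h4
    exact h4

/-- primes dividing `|PSL_n(q)|` -/
theorem psl_dvd {n s : ℕ} (hs : s.Prime) (hn : 1 ≤ n)
    (h : s ∣ Nat.card (Matrix.ProjectiveSpecialLinearGroup (Fin n) F)) :
    s ∣ Fintype.card F ∨ ∃ j, 1 ≤ j ∧ j ≤ n ∧ s ∣ Fintype.card F ^ j - 1 := by
  have h1 : s ∣ Nat.card (Matrix.SpecialLinearGroup (Fin n) F) :=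
    h.trans (Subgroup.card_quotient_dvd_card _)
  have h2 : s ∣ ∏ i : Fin n, (Fintype.card F ^ n - Fintype.card F ^ (i : ℕ)) := by
    rw [← Cfsg.Agent.S0242.result (F := F) rfl n hn]
    exact h1.mul_left _
  obtain ⟨i, _, hi⟩ := (Prime.dvd_finsetProd_iff hs.prime _).1 h2
  have h3 : Fintype.card F ^ n - Fintype.card F ^ (i : ℕ) =
      Fintype.card F ^ (i : ℕ) * (Fintype.card F ^ (n - i) - 1) := by
    rw [Nat.mul_sub, ← pow_add, mul_one, Nat.add_sub_cancel' i.2.le]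
  rw [h3] at hi
  rcases (Nat.Prime.dvd_mul hs).1 hi with h4 | h4
  · left; exact hs.dvd_of_dvd_pow h4
  · right
    have := i.2
    exact ⟨n - i, by omega, by omega, h4⟩

/-- two primes with the same order of `q` -/
theorem psl_adj_same {n s t j : ℕ} (hs : s.Prime) (ht : t.Prime) (hst : s ≠ t) (hj : 2 ≤ j)
    (hjn : j ≤ n) (h1 : orderOf ((Fintype.card F : ℕ) : ZMod s) = j)
    (h2 : orderOf ((Fintype.card F : ℕ) : ZMod t) = j) :
    ∃ g : Matrix.ProjectiveSpecialLinearGroup (Fin n) F, orderOf g = s * t := by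
  have hq1 : 1 ≤ Fintype.card F := Fintype.card_pos
  have hcop : Nat.Coprime s t := (Nat.coprime_primes hs ht).2 hst
  have hc : Nat.Coprime (Nat.card F - 1) (s * t) :=
    Nat.Coprime.mul_right (S2468.cop hs (by rw [h1]; exact hj)) (S2468.cop ht (by rw [h2]; exact hj))
  obtain ⟨A, hA⟩ := PrimeOrd.exists_SL (F := F) j (by omega) (s * t) (by
    rw [Nat.card_eq_fintype_card]
    exact Nat.Coprime.mul_dvd_of_dvd_of_dvd hcop ((ord_dvd_iff hq1).1 (by rw [h1]))
      ((ord_dvd_iff hq1).1 (by rw [h2]))) hc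
  obtain ⟨φ, hφ, _⟩ := exists_phi (F := F) (a := j) (b := 0) (n := n) (by omega)
  have hord : orderOf (φ (A, 1)) = s * t := by
    rw [orderOf_injective _ hφ, Prod.orderOf_mk, hA, orderOf_one, Nat.lcm_one_right]
  exact ⟨QuotientGroup.mk (φ (A, 1)),
    PrimeOrd.orderOf_mk _ (fun x hx => S2468.center_pow x hx) hc _ hord⟩

/-- a prime dividing `|PSL_n(q)|` but not `|SL_b(q)|`, `2 ≤ b` -/
theorem psl_label {n b s : ℕ} (hs : s.Prime) (hn : 1 ≤ n) (hb : 2 ≤ b)
    (h : s ∣ Nat.card (Matrix.ProjectiveSpecialLinearGroup (Fin n) F))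
    (hnot : ¬ s ∣ Nat.card (Matrix.SpecialLinearGroup (Fin b) F)) :
    b < orderOf ((Fintype.card F : ℕ) : ZMod s) ∧ orderOf ((Fintype.card F : ℕ) : ZMod s) ≤ n := by
  have hq1 : 1 ≤ Fintype.card F := Fintype.card_pos
  rcases psl_dvd hs hn h with h1 | ⟨j, hj1, hjn, hj⟩
  · exact absurd (sl_dvd hb hs (Or.inl h1)) hnot
  · have he : orderOf ((Fintype.card F : ℕ) : ZMod s) ∣ j := (ord_dvd_iff hq1).2 hj
    have he1 := Nat.le_of_dvd (by omega) he
    have hepos : orderOf ((Fintype.card F : ℕ) : ZMod s) ≠ 0 := by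
      intro h0; rw [h0] at he; have := Nat.eq_zero_of_zero_dvd he; omega
    refine ⟨?_, he1.trans hjn⟩
    by_contra hle
    exact hnot (sl_dvd hb hs (Or.inr ⟨_, by omega, by omega, (ord_dvd_iff hq1).1 dvd_rfl⟩))

/-- **Cocliques of `PSL_n(q)` containing a prime of small dimension** -/
theorem psl_coclique {n a x : ℕ} {C : Finset ℕ}
    (hC : IsCoc (Matrix.ProjectiveSpecialLinearGroup (Fin n) F) C) (hx : x ∈ C) (ha : 1 ≤ a)
    (han : a + 2 ≤ n) (hxa : x ∣ Nat.card (Matrix.SpecialLinearGroup (Fin a) F)) :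
    C.card ≤ 1 + a := by
  classical
  have hlab : ∀ s ∈ C, s ≠ x → n - a < orderOf ((Fintype.card F : ℕ) : ZMod s) ∧
      orderOf ((Fintype.card F : ℕ) : ZMod s) ≤ n := by
    intro s hs hsx
    refine psl_label (hC.prime s hs) (by omega) (by omega) (hC.dvd s hs) ?_
    intro h
    exact hC.indep x hx s hs (Ne.symm hsx) (psl_adj (by omega) (by omega) (by omega)
      (hC.prime x hx) (hC.prime s hs) (Ne.symm hsx) hxa h)
  have h1 := card_le_of_inj (C := C) (T := Finset.Ioc (n - a) n) (x := x)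
    (fun s => orderOf ((Fintype.card F : ℕ) : ZMod s))
    (fun s hs hsx => Finset.mem_Ioc.2 (hlab s hs hsx))
    (fun s hs hsx t ht htx hst => by
      by_contra hne
      exact hC.indep s hs t ht hne (psl_adj_same (hC.prime s hs) (hC.prime t ht) hne
        (by have := (hlab t ht htx).1; omega) (hlab t ht htx).2 hst rfl))
  rw [Nat.card_Ioc] at h1
  omega

/-- **Cocliques of `PSL_n(q)`** -/
theorem psl_coclique_gen {n : ℕ} {C : Finset ℕ}
    (hC : IsCoc (Matrix.ProjectiveSpecialLinearGroup (Fin n) F) C) (hn : 4 ≤ n) :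
    C.card ≤ 1 + (n - n / 2) := by
  classical
  obtain ⟨x, hx⟩ : ∃ x, ∀ s ∈ C, s ≠ x →
      ¬ s ∣ Nat.card (Matrix.SpecialLinearGroup (Fin (n / 2)) F) := by
    by_cases h : ∃ x ∈ C, x ∣ Nat.card (Matrix.SpecialLinearGroup (Fin (n / 2)) F)
    · obtain ⟨x, hxC, hx⟩ := h
      refine ⟨x, fun s hs hsx hsd => ?_⟩
      exact hC.indep x hxC s hs (Ne.symm hsx) (psl_adj (by omega) (by omega) (by omega)
        (hC.prime x hxC) (hC.prime s hs) (Ne.symm hsx) hx hsd)
    · push Not at h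
      exact ⟨0, fun s hs _ => h s hs⟩
  have hlab : ∀ s ∈ C, s ≠ x → n / 2 < orderOf ((Fintype.card F : ℕ) : ZMod s) ∧
      orderOf ((Fintype.card F : ℕ) : ZMod s) ≤ n := fun s hs hsx =>
    psl_label (hC.prime s hs) (by omega) (by omega) (hC.dvd s hs) (hx s hs hsx)
  have h1 := card_le_of_inj (C := C) (T := Finset.Ioc (n / 2) n) (x := x)
    (fun s => orderOf ((Fintype.card F : ℕ) : ZMod s))
    (fun s hs hsx => Finset.mem_Ioc.2 (hlab s hs hsx))
    (fun s hs hsx t ht htx hst => by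
      by_contra hne
      exact hC.indep s hs t ht hne (psl_adj_same (hC.prime s hs) (hC.prime t ht) hne
        (by have := (hlab t ht htx).1; omega) (hlab t ht htx).2 hst rfl))
  rw [Nat.card_Ioc] at h1
  exact h1

end Cfsg.Agent.H376.Coc
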