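import Cfsg.Agent.H376.SidePsl
import Cfsg.Agent.H376.CocAlt
import Cfsg.Agent.H437.SporNum
import Mathlib

/-!
# `L = PSL_N(3)`, `N ≥ 9`, or `PSL_N(5)`, `N ≥ 11`: `S` is not alternating, and not sporadic
-/

set_option autoImplicit false

namespace Cfsg.Agent.H376.LPsl

open Finset Cfsg.Agent.H376.Coc Cfsg.Agent.H376.Num

variable {F : Type*} [Field F] [Fintype F] {q N : ℕ}

theorem alt_dvd {m s : ℕ} (hs : s.Prime) (hs2 : s ≠ 2) (h : s ≤ m) :
    s ∣ Nat.card (alternatingGroup (Fin m)) := by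
  have h1 : Nontrivial (Fin m) := Fin.nontrivial_iff_two_le.2 (hs.two_le.trans h)
  have h2 := two_mul_nat_card_alternatingGroup (α := Fin m)
  have h3 : s ∣ Nat.card (Equiv.Perm (Fin m)) := by
    rw [Nat.card_eq_fintype_card, Fintype.card_perm, Fintype.card_fin]
    exact (Nat.Prime.dvd_factorial hs).2 h
  rw [← h2] at h3
  exact (hs.dvd_mul.1 h3).resolve_left
    (fun h4 => hs2 ((Nat.prime_dvd_prime_iff_eq hs Nat.prime_two).1 h4))

/-- **alternating groups** -/
theorem elim_alt (hF : Fintype.card F = q) (hq : (q = 3 ∧ 9 ≤ N) ∨ (q = 5 ∧ 11 ≤ N)) {m : ℕ}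
    (H : Hyp (alternatingGroup (Fin m)) (Matrix.ProjectiveSpecialLinearGroup (Fin N) F)) : False := by
  obtain ⟨x, hx, hx71, hxS⟩ := exists_big hF hq H
  have hm := alt_dvd_le hx hxS
  rcases hq with ⟨rfl, hN⟩ | ⟨rfl, hN⟩
  · obtain ⟨h1, D, hD, h31, h2⟩ := thr hF (by omega) (by omega) H g3_31.1
      (alt_dvd (by norm_num) (by norm_num) (by omega))
    have h3 := alt_coclique_thirtyOne hD h31 (by omega)
    rw [g3_31.2] at h1 h2
    omega
  · obtain ⟨h1, D, hD, h31, h2⟩ := thr hF (by omega) (by omega) H g5_23.1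
      (alt_dvd (by norm_num) (by norm_num) (by omega))
    have h3 := alt_coclique_twentyThree hD h31 (by omega)
    rw [g5_23.2] at h1 h2
    omega

theorem spor_smooth : ∀ n ∈ H437.sporList, n ∣ Nat.factorial 71 := by
  decide +kernel

/-- **sporadic groups** -/
theorem elim_spor (hF : Fintype.card F = q) (hq : (q = 3 ∧ 9 ≤ N) ∨ (q = 5 ∧ 11 ≤ N))
    {S : Type*} [Group S] (hS : Nat.card S ∈ H437.sporList)
    (H : Hyp S (Matrix.ProjectiveSpecialLinearGroup (Fin N) F)) : False := by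
  obtain ⟨x, hx, hx71, hxS⟩ := exists_big hF hq H
  have h1 : x ≤ 71 := (Nat.Prime.dvd_factorial hx).1 (hxS.trans (spor_smooth _ hS))
  omega

end Cfsg.Agent.H376.LPsl
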