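import Cfsg.Agent.H376.ElimPsp
import Cfsg.Agent.H163.PG.Ord
import Cfsg.Agent.S2474
import Mathlib

/-!
# `L = PSL_N(3)`, `N ≥ 9`, or `PSL_N(5)`, `N ≥ 11`: `S = Ω_{2m+1}(u)` has the characteristic of `L`
-/

set_option autoImplicit false

namespace Cfsg.Agent.H376

open Finset Cfsg.Agent.H376.Coc

theorem Hyp.of_oodd {E : Type*} [Field E] [Fintype E] {m : ℕ} (hodd : Odd (Fintype.card E)) (hm : 3 ≤ m)
    {L : Type*} [Group L] (H : Hyp (Cfsg.POmega E (Cfsg.quadFormOdd m E)) L) : Hyp (Cfsg.PSp m E) L := by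
  have hc := H163.PG.card_oodd (F := E) hodd hm
  refine ⟨fun r hr h => H.dvd r hr (by rw [hc]; exact h), fun r s hr hs hrs h => ?_,
    fun C hC h3 r hr s hs h1 h2 => H.coc C hC h3 r hr s hs (by rw [hc]; exact h1)
      (by rw [hc]; exact h2)⟩
  exact H.adj r s hr hs hrs ((S2474.result hodd m hm r s hr hs hrs).2 h)

end Cfsg.Agent.H376

namespace Cfsg.Agent.H376.LPsl

variable {F : Type*} [Field F] [Fintype F] {q N : ℕ} {E : Type*} [Field E] [Fintype E] {m : ℕ}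

/-- **`Ω_{2m+1}(u)`** -/
theorem elim_oodd (hF : Fintype.card F = q) (hq : (q = 3 ∧ 9 ≤ N) ∨ (q = 5 ∧ 11 ≤ N))
    (hodd : Odd (Fintype.card E)) (hm : 3 ≤ m)
    (H : Hyp (Cfsg.POmega E (Cfsg.quadFormOdd m E)) (Matrix.ProjectiveSpecialLinearGroup (Fin N) F)) :
    ∃ f : ℕ, f ≠ 0 ∧ Fintype.card E = q ^ f :=
  elim_psp hF hq (by omega) (H.of_oodd hodd hm)

end Cfsg.Agent.H376.LPsl
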