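import Cfsg.Agent.H376.ElimOrth
import Mathlib

/-!
# `L = PSL_N(3)`, `N ≥ 9`, or `PSL_N(5)`, `N ≥ 11`: `S = PΩ^±_{2m}(u)` has the characteristic of `L`
-/

set_option autoImplicit false

namespace Cfsg.Agent.H376.LPsl

open Finset Cfsg.Agent.H376.Coc Cfsg.Agent.H376.Num Cfsg.Agent.H72.AdjOrth Cfsg.Agent.H72.AdjCoc

theorem g3_379 : Good 3 379 ∧ orderOf ((3 : ℕ) : ZMod 379) = 378 :=
  good_of [2, 3, 7] (by norm_num) (by norm_num) (by norm_num) (by norm_num) (by norm_num)
    (by decide +kernel) (mem_of_factors _ (by decide +kernel) (by norm_num)) (by decide +kernel)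

theorem g5_2521 : Good 5 2521 ∧ orderOf ((5 : ℕ) : ZMod 2521) = 84 :=
  good_of [2, 3, 7] (by norm_num) (by norm_num) (by norm_num) (by norm_num) (by norm_num)
    (by decide +kernel) (mem_of_factors _ (by decide +kernel) (by norm_num)) (by decide +kernel)

theorem prime_of_prod {r : ℕ} (hr : r.Prime) (L : List ℕ) (hL : ∀ l ∈ L, l.Prime) {n : ℕ}
    (hn : n ∣ L.prod ^ 10) (h : r ∣ n) : r ∈ L :=
  mem_of_factors L hn hL r hr h

/-- primes with order at most 10 -/
theorem cand_three_ten {r : ℕ} (hr : r.Prime) (h3 : r ≠ 3)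
    (h : Good 3 r → orderOf ((3 : ℕ) : ZMod r) ≤ 10) : r ∈ [2, 5, 7, 11, 13, 41, 61, 757, 1093] := by
  have hnd : ¬ r ∣ 3 := fun hd => h3 ((Nat.prime_dvd_prime_iff_eq hr Nat.prime_three).1 hd)
  have hpos : 0 < orderOf ((3 : ℕ) : ZMod r) := ord_pos hr
    ((Nat.coprime_primes Nat.prime_three hr).2 (Ne.symm h3))
  by_cases h2 : r = 2
  · rw [h2]; decide
  have hle : orderOf ((3 : ℕ) : ZMod r) ≤ 10 := by
    by_cases hg : 2 ≤ orderOf ((3 : ℕ) : ZMod r)
    · exact h ⟨hr, h2, hnd, hg⟩
    · omega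
  have hcases : orderOf ((3 : ℕ) : ZMod r) ∣ 6 ∨ orderOf ((3 : ℕ) : ZMod r) ∣ 7 ∨
      orderOf ((3 : ℕ) : ZMod r) ∣ 8 ∨ orderOf ((3 : ℕ) : ZMod r) ∣ 9 ∨
      orderOf ((3 : ℕ) : ZMod r) ∣ 10 := by
    interval_cases orderOf ((3 : ℕ) : ZMod r) <;> decide
  rcases hcases with h4 | h4 | h4 | h4 | h4
  all_goals
    have h5 := (ord_dvd_iff (q := 3) (by norm_num)).1 h4
    exact prime_of_prod hr _ (by norm_num) (by norm_num) h5

theorem cand_three_five {r : ℕ} (hr : r.Prime) (h3 : r ≠ 3)
    (h : Good 3 r → orderOf ((3 : ℕ) : ZMod r) ≤ 5) : r = 2 ∨ r = 5 ∨ r = 13 ∨ r = 11 := by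
  by_cases h4 : Good 3 r → orderOf ((3 : ℕ) : ZMod r) ≤ 4
  · rcases cand_three hr h3 h4 with h | h | h <;> simp [h]
  · push Not at h4
    have h5 : orderOf ((3 : ℕ) : ZMod r) = 5 := by have := h h4.1; omega
    have h6 := (ord_dvd_iff (q := 3) (s := r) (d := 5) (by norm_num)).1 (by rw [h5])
    have h7 := prime_of_prod hr [2, 11] (by norm_num) (by norm_num) h6
    simp only [List.mem_cons, List.not_mem_nil, or_false] at h7
    rcases h7 with h7 | h7 <;> simp [h7]

theorem cand_five_five {r : ℕ} (hr : r.Prime) (h5' : r ≠ 5)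
    (h : Good 5 r → orderOf ((5 : ℕ) : ZMod r) ≤ 5) :
    r = 2 ∨ r = 3 ∨ r = 13 ∨ r = 31 ∨ r = 11 ∨ r = 71 := by
  by_cases h4 : Good 5 r → orderOf ((5 : ℕ) : ZMod r) ≤ 4
  · rcases cand_five hr h5' h4 with h | h | h | h <;> simp [h]
  · push Not at h4
    have h5 : orderOf ((5 : ℕ) : ZMod r) = 5 := by have := h h4.1; omega
    have h6 := (ord_dvd_iff (q := 5) (s := r) (d := 5) (by norm_num)).1 (by rw [h5])
    have h7 := prime_of_prod hr [2, 11, 71] (by norm_num) (by norm_num) h6
    simp only [List.mem_cons, List.not_mem_nil, or_false] at h7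
    rcases h7 with h7 | h7 | h7 <;> simp [h7]

variable {F : Type*} [Field F] [Fintype F] {q N : ℕ} {E : Type*} [Field E] [Fintype E]
  {m : ℕ} {δ : ℤ} {S : Type*} [Group S]

/-- through a prime of `S`, all members good -/
theorem thr' (hF : Fintype.card F = q) (hq : 3 ≤ q) (hN : 4 ≤ N)
    (H : Hyp S (Matrix.ProjectiveSpecialLinearGroup (Fin N) F)) {x : ℕ} (hx : Good q x)
    (hxS : x ∣ Nat.card S) : orderOf ((q : ℕ) : ZMod x) ≤ N ∧
      ∃ D : Finset ℕ, IsCoc S D ∧ x ∈ D ∧ min (orderOf ((q : ℕ) : ZMod x)) (N - N / 2) ≤ D.card + 1 ∧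
        ∀ s ∈ D, Good q s := by
  have hxN := (dvd_iff hF (by omega) hx).1 (H.dvd x hx.prime hxS)
  refine ⟨hxN, ?_⟩
  obtain ⟨C, hC, hxC, hcard, hgood, -⟩ := exists_thr hF hq hN hx hxN
  by_cases h3 : 3 ≤ C.card
  · obtain ⟨D, hDC, hD, h1, h2⟩ := H.exists_coc hC h3
    exact ⟨D, hD, h2 x hxC hxS, by omega, fun s hs => hgood s (hDC hs)⟩
  · refine ⟨{x}, ⟨?_, ?_, ?_⟩, mem_singleton_self x, ?_, ?_⟩
    · intro p hp
      rw [mem_singleton.1 hp]; exact hx.prime
    · intro p hp
      rw [mem_singleton.1 hp]; exact hxS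
    · intro p hp r hr hne
      exact absurd ((mem_singleton.1 hp).trans (mem_singleton.1 hr).symm) hne
    · rw [card_singleton]
      omega
    · intro s hs
      rw [mem_singleton.1 hs]; exact hx

/-- a test prime -/
theorem orth_test (hF : Fintype.card F = q) (hq : 3 ≤ q) (hN : 5 ≤ N)
    (O : OSide S E m δ)
    (H : Hyp S (Matrix.ProjectiveSpecialLinearGroup (Fin N) F))
    {x j : ℕ} (hx : Good q x) (hj : 1 ≤ j) (hxE : ¬ x ∣ Nat.card E)
    (hxj : x ∣ Nat.card E ^ (2 * j) - 1) (hm : j < m) :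
    orderOf ((q : ℕ) : ZMod x) ≤ N ∧ (m < j + 3 ∨
      min (orderOf ((q : ℕ) : ZMod x)) (N - N / 2) ≤ 4 + j + j / 2) := by
  have hcard : 1 ≤ Nat.card E := Nat.card_pos
  have heta := eta_two_mul hcard hj hxj
  have hxS := O.dvd x hx.prime hx.odd hxE (Or.inl (by omega))
  obtain ⟨h1, D, hD, hxD, hc⟩ := thr hF hq (by omega) H hx hxS
  refine ⟨h1, ?_⟩
  by_cases h2 : m < j + 3
  · exact Or.inl h2
  right
  have hw : wO (Nat.card E) x = eta (ee (Nat.card E) x) := if_neg (not_or.2 ⟨hx.odd, hxE⟩)
  have h3 := O.thr hD hxD (by omega)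
  rw [hw] at h3
  omega

set_option maxHeartbeats 2000000 in
/-- **`PΩ^±_{2m}(u)` in cross characteristic** -/
theorem elim_orth (hF : Fintype.card F = q) (hq : (q = 3 ∧ 9 ≤ N) ∨ (q = 5 ∧ 11 ≤ N))
    (O : OSide S E m δ)
    (H : Hyp S (Matrix.ProjectiveSpecialLinearGroup (Fin N) F)) :
    ∃ f : ℕ, f ≠ 0 ∧ Fintype.card E = q ^ f := by
  classical
  obtain ⟨p, hc⟩ := CharP.exists E
  obtain ⟨f, hp, hf⟩ := FiniteField.card E p
  have := Fact.mk hp
  have hm4 := O.hm
  have hfE : Nat.card E = p ^ (f : ℕ) := by rw [Nat.card_eq_fintype_card, hf]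
  have hpE : p ∣ Nat.card E := by rw [hfE]; exact dvd_pow_self p f.ne_zero
  have huniq : ∀ s : ℕ, s.Prime → s ∣ Nat.card E → s = p := by
    intro s hs h
    rw [hfE] at h
    exact (Nat.prime_dvd_prime_iff_eq hs hp).1 (hs.dvd_of_dvd_pow h)
  have hpS : p ∣ Nat.card S := O.dvdp p hp hpE
  by_cases hpq : p = q
  · exact ⟨f, f.ne_zero, by rw [hf, hpq]⟩
  exfalso
  -- the test in terms of `p`
  have test : ∀ {x j k : ℕ}, (Good q x ∧ orderOf ((q : ℕ) : ZMod x) = k) → 1 ≤ j → x ≠ p →
      x ∣ p ^ (2 * j) - 1 → j < m → k ≤ N ∧ (m < j + 3 ∨ min k (N - N / 2) ≤ 4 + j + j / 2) := by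
    intro x j k hx hj hxp hxj hjm
    have h1 := orth_test hF (by omega) (by omega) O H hx.1 hj
      (fun h => hxp (huniq x hx.1.prime h)) (by rw [hfE]; exact pow_dvd_aux hxj) hjm
    rwa [hx.2] at h1
  have hgp : Good q p → orderOf ((q : ℕ) : ZMod p) ≤ N := fun h =>
    (dvd_iff hF (by omega) h).1 (H.dvd p hp hpS)
  -- the top coclique
  obtain ⟨D, hD, hDc, hDg⟩ := top hF (by omega) (by omega) H
  have h2D : 2 ∉ D := fun h => (hDg 2 h).1.odd rfl
  rcases Nat.lt_or_ge N 11 with hN11 | hN11
  · -- `q = 3`, `N = 9, 10`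
    obtain ⟨rfl, hN9⟩ : q = 3 ∧ 9 ≤ N := by
      rcases hq with h | h
      · exact h
      · omega
    have hmem := cand_three_ten hp hpq (fun h => (hgp h).trans (by omega))
    simp only [List.mem_cons, List.not_mem_nil, or_false] at hmem
    rcases hmem with rfl | rfl | rfl | rfl | rfl | rfl | rfl | rfl | rfl
    · -- `p = 2`
      have hDp : ∀ s ∈ D, ¬ s ∣ Nat.card E := fun s hs h => h2D ((huniq s (hD.prime s hs) h) ▸ hs)
      have hsm := O.small hD h2D hDp
      rcases Nat.lt_or_ge 4 m with h | h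
      · have := test g3_17 (j := 4) (by norm_num) (by norm_num) (by norm_num) h
        omega
      · have hm : m = 4 := by omega
        rcases O.delta with hδ | hδ
        · have := hsm.2.1 hm hδ
          omega
        · subst hm
          have hxE : ¬ 17 ∣ Nat.card E := fun h => by
            have := huniq 17 (by norm_num) h
            omega
          have hcard : 1 ≤ Nat.card E := Nat.card_pos
          have h17 : 17 ∣ Nat.card E ^ (2 * 4) - 1 := by
            rw [hfE]; exact pow_dvd_aux (by norm_num)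
          have heta := eta_two_mul hcard (by norm_num) h17
          have hdvd := ee_dvd hcard h17
          have hS : 17 ∣ Nat.card S := by
            refine O.dvd 17 (by norm_num) (by norm_num) hxE ?_
            rcases Nat.lt_or_ge (eta (ee (Nat.card E) 17)) 4 with h4 | h4
            · exact Or.inl h4
            · right
              refine ⟨by omega, ?_⟩
              rw [hδ, sg]
              split_ifs with h5
              · rfl
              · exfalso
                rw [eta, if_neg h5] at h4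
                have h6 : ee (Nat.card E) 17 ∣ 1 := by
                  have h7 : Nat.Coprime (ee (Nat.card E) 17) (2 ^ 3) :=
                    Nat.Coprime.pow_right _ (Nat.coprime_two_right.2 (Nat.not_even_iff_odd.1 h5))
                  exact h7.dvd_of_dvd_mul_left (by simpa using hdvd)
                have := Nat.le_of_dvd (by norm_num) h6
                omega
          have := (dvd_iff hF (by omega) g3_17.1).1 (H.dvd 17 (by norm_num) hS)
          rw [g3_17.2] at this
          omega
    · have := test g3_31 (j := 3) (by norm_num) (by norm_num) (by norm_num) (by omega)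
      omega
    · have := test g3_19 (j := 3) (by norm_num) (by norm_num) (by norm_num) (by omega)
      omega
    · have := test g3_19 (j := 3) (by norm_num) (by norm_num) (by norm_num) (by omega)
      omega
    · have := test g3_17 (j := 2) (by norm_num) (by norm_num) (by norm_num) (by omega)
      omega
    · have := test g3_29 (j := 2) (by norm_num) (by norm_num) (by norm_num) (by omega)
      omega
    · have := test g3_31 (j := 1) (by norm_num) (by norm_num) (by norm_num) (by omega)
      omega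
    · have := test g3_379 (j := 1) (by norm_num) (by norm_num) (by norm_num) (by omega)
      omega
    · have := test g3_547 (j := 1) (by norm_num) (by norm_num) (by norm_num) (by omega)
      omega
  · -- `N ≥ 11`
    have hchar : Good q p → orderOf ((q : ℕ) : ZMod p) ≤ 5 := by
      intro hg
      obtain ⟨h1, D', hD', hpD', hc', hg'⟩ := thr' hF (by omega) (by omega) H hg hpS
      have := O.thr_char hD' hpD' hpE hg.odd (fun h => (hg' 2 h).odd rfl)
      omega
    have hDp : ∀ s ∈ D, ¬ s ∣ Nat.card E := by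
      intro s hs h
      obtain rfl := huniq s (hD.prime s hs) h
      have h1 := hDg s hs
      have h2 := hchar h1.1
      omega
    obtain ⟨s4, -, s5, s6, s7, s8, s9⟩ := O.small hD h2D hDp
    have hm5 : 5 ≤ m := by
      by_contra hlt
      have := s4 (by omega)
      omega
    rcases hq with ⟨rfl, hN⟩ | ⟨rfl, hN⟩
    · rcases cand_three_five hp hpq hchar with rfl | rfl | rfl | rfl
      · have h1 := test g3_17 (j := 4) (by norm_num) (by norm_num) (by norm_num) (by omega)
        have hm8 : 8 ≤ m := by omega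
        have h2 := test g3_31 (j := 5) (by norm_num) (by norm_num) (by norm_num) (by omega)
        omega
      · have h1 := test g3_31 (j := 3) (by norm_num) (by norm_num) (by norm_num) (by omega)
        omega
      · have h1 := test g3_17 (j := 2) (by norm_num) (by norm_num) (by norm_num) (by omega)
        omega
      · have h1 := test g3_19 (j := 3) (by norm_num) (by norm_num) (by norm_num) (by omega)
        omega
    · rcases cand_five_five hp hpq hchar with rfl | rfl | rfl | rfl | rfl | rfl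
      · have h1 := test g5_17 (j := 4) (by norm_num) (by norm_num) (by norm_num) (by omega)
        have hm8 : 8 ≤ m := by omega
        have h2 := test g5_127 (j := 7) (by norm_num) (by norm_num) (by norm_num) (by omega)
        omega
      · have h1 := test g5_41 (j := 4) (by norm_num) (by norm_num) (by norm_num) (by omega)
        have hm8 : 8 ≤ m := by omega
        have h2 := test g5_61 (j := 5) (by norm_num) (by norm_num) (by norm_num) (by omega)
        omega
      · have h1 := test g5_17 (j := 2) (by norm_num) (by norm_num) (by norm_num) (by omega)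
        omega
      · have h1 := test g5_37 (j := 2) (by norm_num) (by norm_num) (by norm_num) (by omega)
        omega
      · have h1 := test g5_61 (j := 2) (by norm_num) (by norm_num) (by norm_num) (by omega)
        omega
      · have h1 := test g5_2521 (j := 2) (by norm_num) (by norm_num) (by norm_num) (by omega)
        omega

/-- **`PΩ⁺`** -/
theorem elim_oplus (hF : Fintype.card F = q) (hq : (q = 3 ∧ 9 ≤ N) ∨ (q = 5 ∧ 11 ≤ N))
    (hm : 4 ≤ m) (H : Hyp (Cfsg.POmega E (Cfsg.quadFormPlus m E))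
      (Matrix.ProjectiveSpecialLinearGroup (Fin N) F)) :
    ∃ f : ℕ, f ≠ 0 ∧ Fintype.card E = q ^ f :=
  elim_orth hF hq (oside_plus hm) H

/-- **`PΩ⁻`** -/
theorem elim_ominus (hF : Fintype.card F = q) (hq : (q = 3 ∧ 9 ≤ N) ∨ (q = 5 ∧ 11 ≤ N))
    (hm : 4 ≤ m) {a b : E}
    (hab : ∀ z₁ z₂ : E, z₁ ^ 2 + a * z₁ * z₂ + b * z₂ ^ 2 = 0 → z₁ = 0 ∧ z₂ = 0)
    (H : Hyp (Cfsg.POmega E (Cfsg.quadFormMinus (m - 1) E a b))
      (Matrix.ProjectiveSpecialLinearGroup (Fin N) F)) :
    ∃ f : ℕ, f ≠ 0 ∧ Fintype.card E = q ^ f :=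
  elim_orth hF hq (oside_minus hm hab) H

end Cfsg.Agent.H376.LPsl
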