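import Cfsg.Agent.H376.ElimPsl
import Cfsg.Agent.H72.AdjPSUW
import Cfsg.Agent.H127.PSUThreeEx
import Mathlib

/-!
# `L = PSL_N(3)`, `N ≥ 9`, or `PSL_N(5)`, `N ≥ 11`: `S = PSU_n(u)` has the characteristic of `L`
-/

set_option autoImplicit false

namespace Cfsg.Agent.H376.Coc

open Finset Cfsg.Agent.H72.AdjPSU Cfsg.Agent.ClassicalGeometry.GUBasic

variable {E : Type*} [Field E] [Fintype E] {u n : ℕ}

/-- labels -/
theorem psu_label_inj (hF : Fintype.card E = u ^ 2) (hn : 3 ≤ n) {C : Finset ℕ}
    (hC : IsCoc (Cfsg.PSU n E u) C) {s t : ℕ} (hs : s ∈ C) (ht : t ∈ C) (hsu : ¬ s ∣ u)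
    (h : nu u s = nu u t) : s = t := by
  by_contra hne
  exact hC.indep s hs t ht hne (adj_of_nu hF hn (hC.prime s hs) (hC.prime t ht) hne hsu h
    (nu_le hF (by omega) (hC.prime s hs) hsu (hC.dvd s hs)))

theorem psu_coclique_half (hF : Fintype.card E = u ^ 2) (hn : 4 ≤ n) {C : Finset ℕ}
    (hC : IsCoc (Cfsg.PSU n E u) C) : C.card ≤ 1 + n / 2 := by
  classical
  have hlab : ∀ s ∈ C, n / 2 < wU u s → ¬ s ∣ u ∧ wU u s = nu u s ∧ nu u s ≤ n := by
    intro s hs hlt
    have h1 : ¬ (s ∣ u ∨ s ∣ u + 1) := by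
      intro h3
      have h4 : wU u s = 2 := if_pos h3
      omega
    have h2 : ¬ s ∣ u := fun h => h1 (Or.inl h)
    exact ⟨h2, if_neg h1, nu_le hF (by omega) (hC.prime s hs) h2 (hC.dvd s hs)⟩
  by_cases hx : ∃ x ∈ C, wU u x ≤ n / 2
  · obtain ⟨x, hxC, hx⟩ := hx
    have hw : ∀ s ∈ C, s ≠ x → n - n / 2 < wU u s := by
      intro s hs hsx
      by_contra hle
      exact hC.indep x hxC s hs (Ne.symm hsx) (adj_of_wU hF (by omega) (hC.prime x hxC)
        (hC.prime s hs) (Ne.symm hsx) (by omega))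
    have h1 := card_le_of_inj (C := C) (T := Finset.Ioc (n - n / 2) n) (x := x) (fun s => nu u s)
      (fun s hs hsx => by
        have h2 := hw s hs hsx
        have h3 := hlab s hs (by omega)
        rw [Finset.mem_Ioc]
        omega)
      (fun s hs hsx t ht htx hst => psu_label_inj hF (by omega) hC hs ht
        (hlab s hs (by have := hw s hs hsx; omega)).1 hst)
    rw [Nat.card_Ioc] at h1
    omega
  · push Not at hx
    have h1 := card_le_of_inj' (C := C) (T := Finset.Ioc (n / 2) n) (fun s => nu u s)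
      (fun s hs => by
        have h2 := hx s hs
        have h3 := hlab s hs h2
        rw [Finset.mem_Ioc]
        omega)
      (fun s hs t ht hst => psu_label_inj hF (by omega) hC hs ht (hlab s hs (hx s hs)).1 hst)
    rw [Nat.card_Ioc] at h1
    omega

theorem psu_coclique_three (hF : Fintype.card E = u ^ 2) {C : Finset ℕ}
    (hC : IsCoc (Cfsg.PSU 3 E u) C) (h5 : ∀ s ∈ C, 5 ≤ s) : C.card ≤ 3 := by
  classical
  obtain ⟨p, hp⟩ := CharP.exists E
  have hpp : Fact p.Prime := ⟨CharP.char_is_prime E p⟩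
  obtain ⟨j, hj, -⟩ := Cfsg.Agent.H127.UnitRoots.exists_eq_pow hF p
  have hq2 := two_le hF
  have hpu : ∀ s ∈ C, s ∣ u → s = p := by
    intro s hs hsu
    rw [hj] at hsu
    exact (Nat.prime_dvd_prime_iff_eq (hC.prime s hs) hpp.out).1 ((hC.prime s hs).dvd_of_dvd_pow hsu)
  have hlab : ∀ s ∈ C, s ≠ p → 1 ≤ nu u s ∧ nu u s ≤ 3 := fun s hs hsp =>
    ⟨nu_pos (hC.prime s hs) (fun h => hsp (hpu s hs h)),
      nu_le hF (by omega) (hC.prime s hs) (fun h => hsp (hpu s hs h)) (hC.dvd s hs)⟩
  by_cases hpC : p ∈ C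
  · have h1 := card_le_of_inj (C := C) (T := Finset.Icc 2 3) (x := p) (fun s => nu u s)
      (fun s hs hsx => by
        rw [Finset.mem_Icc]
        refine ⟨?_, (hlab s hs hsx).2⟩
        by_contra hlt
        have h2 : nu u s = 1 := by have := (hlab s hs hsx).1; omega
        have h3 := dvd_of_nu_eq_one h2
        apply hC.indep p hpC s hs (Ne.symm hsx)
        apply Cfsg.Agent.H127.PSUThreeEx.ex_two p hF
        -- `p * s ∣ p * (u + 1) / gcd 3 (u + 1)`
        have h4 : Nat.Coprime s (Nat.gcd 3 (u + 1)) := by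
          refine Nat.Coprime.coprime_dvd_right (Nat.gcd_dvd_left _ _) ?_
          exact (Nat.coprime_primes (hC.prime s hs) Nat.prime_three).2
            (by have := h5 s hs; omega)
        have h6 : Nat.gcd 3 (u + 1) ∣ u + 1 := Nat.gcd_dvd_right _ _
        obtain ⟨c, hc⟩ := h6
        have hg : 0 < Nat.gcd 3 (u + 1) := Nat.gcd_pos_of_pos_left _ (by norm_num)
        have h7 : p * (u + 1) / Nat.gcd 3 (u + 1) = p * c := by
          conv_lhs => rw [show p * (u + 1) = Nat.gcd 3 (u + 1) * (p * c) by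
            conv_lhs => rw [hc]
            ring]
          exact Nat.mul_div_cancel_left _ hg
        rw [h7]
        apply Nat.mul_dvd_mul_left
        rw [hc] at h3
        exact Nat.Coprime.dvd_of_dvd_mul_left h4 h3)
      (fun s hs hsx t ht htx hst => psu_label_inj hF le_rfl hC hs ht
        (fun h => hsx (hpu s hs h)) hst)
    simpa using h1
  · have h1 := card_le_of_inj' (C := C) (T := Finset.Icc 1 3) (fun s => nu u s)
      (fun s hs => Finset.mem_Icc.2 (hlab s hs (fun h => hpC (h ▸ hs))))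
      (fun s hs t ht hst => psu_label_inj hF le_rfl hC hs ht
        (fun h => hpC (hpu s hs h ▸ hs)) hst)
    simpa using h1

theorem wU_le {x A : ℕ} (hu : 1 ≤ u) (hA : 2 ≤ A)
    (h : if Even A then x ∣ u ^ A - 1 else x ∣ u ^ A + 1) : wU u x ≤ A := by
  rw [wU]
  split_ifs with h1
  · exact hA
  · exact nu_le_of_dvd hu (by omega) h

theorem psu_dvd (hF : Fintype.card E = u ^ 2) (hn : 3 ≤ n) {x : ℕ} (hx : x.Prime)
    (h : wU u x ≤ n) : x ∣ Nat.card (Cfsg.PSU n E u) := by
  obtain ⟨z, hz⟩ : ∃ z : Cfsg.PSU n E u, orderOf z = x := by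
    rcases Nat.lt_or_ge (wU u x) n with h1 | h1
    · exact exists_order_of_block_lt hF hn (hasBlock_wU hF hx) h1 _ dvd_rfl
    · have h2 : ¬ (x ∣ u ∨ x ∣ u + 1) := by
        intro h3
        have h4 : wU u x = 2 := if_pos h3
        omega
      exact exists_order_of_block hF hn (hasBlock_wU hF hx) (wU_pos hx) h
        ((Nat.Prime.coprime_iff_not_dvd hx).2 (fun h3 => h2 (Or.inr h3))) _ dvd_rfl
  rw [← hz]
  exact orderOf_dvd_natCard z

end Cfsg.Agent.H376.Coc

namespace Cfsg.Agent.H376.LPsl

open Finset Cfsg.Agent.H376.Coc Cfsg.Agent.H376.Num Cfsg.Agent.H72.AdjPSU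
  Cfsg.Agent.ClassicalGeometry.GUBasic

variable {F : Type*} [Field F] [Fintype F] {q N : ℕ} {E : Type*} [Field E] [Fintype E] {n u : ℕ}

theorem psu_test (hF : Fintype.card F = q) (hq : 3 ≤ q) (hN : 5 ≤ N)
    (hE : Fintype.card E = u ^ 2) (hn : 3 ≤ n)
    (H : Hyp (Cfsg.PSU n E u) (Matrix.ProjectiveSpecialLinearGroup (Fin N) F))
    {x A : ℕ} (hx : Good q x) (hxA : wU u x ≤ A) :
    n < A ∨ (orderOf ((q : ℕ) : ZMod x) ≤ N ∧
      (n < A + 2 ∨ min (orderOf ((q : ℕ) : ZMod x)) (N - N / 2) ≤ A + 2)) := by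
  by_cases hm : n < A
  · exact Or.inl hm
  right
  obtain ⟨h1, D, hD, hxD, hcard⟩ := thr hF hq (by omega) H hx
    (psu_dvd hE hn hx.prime (by omega))
  refine ⟨h1, ?_⟩
  by_cases hm1 : n < A + 2
  · exact Or.inl hm1
  right
  have h2 := (card_coclique hE hn (fun r hr => ⟨hD.prime r hr, hD.dvd r hr⟩) hD.indep hxD).2.2
    (by omega)
  omega

theorem psu_rank (hF : Fintype.card F = q) (hq : 3 ≤ q) (hN : 8 ≤ N)
    (hE : Fintype.card E = u ^ 2) (hn : 3 ≤ n)
    (H : Hyp (Cfsg.PSU n E u) (Matrix.ProjectiveSpecialLinearGroup (Fin N) F)) :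
    (n = 3 → N - N / 2 ≤ 4) ∧ (4 ≤ n → N - N / 2 ≤ 2 + n / 2) := by
  obtain ⟨D, hD, hcard, hgood⟩ := top hF hq (by omega) H
  constructor
  · rintro rfl
    have h5 : ∀ s ∈ D, 5 ≤ s := by
      intro s hs
      have h1 := hgood s hs
      have h2 := lt_of_good h1.1
      omega
    have := psu_coclique_three hE hD h5
    omega
  · intro hm
    have := psu_coclique_half hE hm hD
    omega

theorem pow_dvd_aux {p x a f : ℕ} (h : x ∣ p ^ a - 1) : x ∣ (p ^ f) ^ a - 1 := by
  have h2 : (p ^ f) ^ a = (p ^ a) ^ f := by rw [← pow_mul, ← pow_mul, mul_comm]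
  rw [h2]
  have h1 := Nat.sub_dvd_pow_sub_pow (p ^ a) 1 f
  rw [one_pow] at h1
  exact h.trans h1

theorem pow_dvd_aux' {p x a f : ℕ} (hf : Odd f) (h : x ∣ p ^ a + 1) : x ∣ (p ^ f) ^ a + 1 := by
  have h2 : (p ^ f) ^ a = (p ^ a) ^ f := by rw [← pow_mul, ← pow_mul, mul_comm]
  rw [h2]
  have h1 := hf.nat_add_dvd_pow_add_pow (p ^ a) 1
  rw [one_pow] at h1
  exact h.trans h1

theorem g3_8191 : Good 3 8191 ∧ orderOf ((3 : ℕ) : ZMod 8191) = 910 :=
  good_of [2, 5, 7, 13] (by norm_num) (by norm_num) (by norm_num) (by norm_num) (by norm_num)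
    (by decide +kernel) (mem_of_factors _ (by decide +kernel) (by norm_num)) (by decide +kernel)

theorem ord2_757 : orderOf ((2 : ℕ) : ZMod 757) = 756 :=
  ord_eq (by norm_num) (by decide +kernel) (fun l hl hlk =>
    (by decide +kernel : ∀ l ∈ [2, 3, 7], 2 ^ (756 / l) % 757 ≠ 1 % 757) l
      (mem_of_factors [2, 3, 7] (by decide +kernel) (by norm_num) l hl hlk))

theorem ord2_1093 : orderOf ((2 : ℕ) : ZMod 1093) = 364 :=
  ord_eq (by norm_num) (by decide +kernel) (fun l hl hlk =>
    (by decide +kernel : ∀ l ∈ [2, 7, 13], 2 ^ (364 / l) % 1093 ≠ 1 % 1093) l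
      (mem_of_factors [2, 7, 13] (by decide +kernel) (by norm_num) l hl hlk))

/-- **`PSU_n(u)` in cross characteristic** -/
theorem elim_psu (hF : Fintype.card F = q) (hq : (q = 3 ∧ 9 ≤ N) ∨ (q = 5 ∧ 11 ≤ N))
    (hE : Fintype.card E = u ^ 2) (hn : 3 ≤ n)
    (H : Hyp (Cfsg.PSU n E u) (Matrix.ProjectiveSpecialLinearGroup (Fin N) F)) :
    ∃ f : ℕ, f ≠ 0 ∧ u = q ^ f := by
  classical
  obtain ⟨p, hc⟩ := CharP.exists E
  have hpp : Fact p.Prime := ⟨CharP.char_is_prime E p⟩
  have hp := hpp.out
  obtain ⟨f, hf, hf0⟩ := Cfsg.Agent.H127.UnitRoots.exists_eq_pow hE p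
  have hu2 := two_le hE
  have hf0' : f ≠ 0 := by rintro rfl; rw [pow_zero] at hf; omega
  obtain ⟨hr1, hr2⟩ := psu_rank hF (by omega) (by omega) hE hn H
  have hm4 : 4 ≤ n := by
    by_contra hlt
    have := hr1 (by omega)
    omega
  have hr3 := hr2 hm4
  -- the characteristic
  have hchar : Good q p → orderOf ((q : ℕ) : ZMod p) ≤ 4 := by
    intro hg
    have hw : wU u p ≤ 2 := by
      have : wU u p = 2 := if_pos (Or.inl (by rw [hf]; exact dvd_pow_self p hf0'))
      omega
    rcases psu_test hF (by omega) (by omega) hE hn H hg hw with h | ⟨h1, h | h⟩ <;> omega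
  by_cases hpq : p = q
  · exact ⟨f, hf0', by rw [hf, hpq]⟩
  exfalso
  have even_le : ∀ {x A : ℕ}, 2 ≤ A → Even A → x ∣ p ^ A - 1 → wU u x ≤ A := by
    intro x A hA hev h
    apply wU_le (by omega) hA
    rw [if_pos hev, hf]
    exact pow_dvd_aux h
  have odd_le : ∀ {x A : ℕ}, 2 ≤ A → Odd A → Odd f → x ∣ p ^ A + 1 → wU u x ≤ A := by
    intro x A hA hod hfo h
    apply wU_le (by omega) hA
    rw [if_neg (Nat.not_even_iff_odd.2 hod), hf]
    exact pow_dvd_aux' hfo h
  rcases hq with ⟨rfl, hN⟩ | ⟨rfl, hN⟩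
  · rcases cand_three hp hpq hchar with rfl | rfl | rfl
    · rcases Nat.even_or_odd f with ⟨k, hk⟩ | hfo
      · have h1 := psu_test hF (by omega) (by omega) hE hn H g3_17.1 (A := 4)
          (wU_le (by omega) (by norm_num) (by
            rw [if_pos (by decide), hf, hk, ← two_mul, pow_mul]
            exact pow_dvd_aux (by norm_num)))
        rw [g3_17.2] at h1
        omega
      · have h1 := psu_test hF (by omega) (by omega) hE hn H g3_43.1 (A := 7)
          (odd_le (by norm_num) (by decide) hfo (by norm_num))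
        rw [g3_43.2] at h1
        -- the case `n = 6`, `N = 9, 10`
        have hn6 : n = 6 ∧ N ≤ 10 := by omega
        obtain ⟨rfl, hN10⟩ := hn6
        have key : ∀ x o l y : ℕ, x.Prime → x ≠ 2 → orderOf ((2 : ℕ) : ZMod x) = o →
            x ∣ Nat.card (Cfsg.PSU 6 E u) → l.Prime → l ∣ o → 7 ≤ l → Good 3 y →
            10 < orderOf ((3 : ℕ) : ZMod y) → y ∣ 2 ^ l - 1 → False := by
          intro x o l y hx hx2 hxo hxS hl hlo hl7 hy hy10 hyl
          have hxu : ¬ x ∣ u := by
            intro h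
            rw [hf] at h
            exact hx2 ((Nat.prime_dvd_prime_iff_eq hx Nat.prime_two).1 (hx.dvd_of_dvd_pow h))
          have hnle := nu_le hE (by omega) hx hxu hxS
          have hnpos := nu_pos hx hxu
          have h2 : (-(u : ZMod x)) ^ nu u x = 1 := pow_orderOf_eq_one _
          have h3 : ((2 : ℕ) : ZMod x) ^ (f * (nu u x * 2)) = 1 := by
            have h4 : ((u : ℕ) : ZMod x) ^ (nu u x * 2) = 1 := by
              have h5 : (-(u : ZMod x)) ^ (nu u x * 2) = 1 := by rw [pow_mul, h2, one_pow]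
              rwa [Even.neg_pow ⟨nu u x, by ring⟩] at h5
            have hu' : ((u : ℕ) : ZMod x) = ((2 : ℕ) : ZMod x) ^ f := by
              rw [hf, Nat.cast_pow]
            rw [hu', ← pow_mul] at h4
            exact h4
          have h4 := orderOf_dvd_of_pow_eq_one h3
          rw [hxo] at h4
          have h5 : l ∣ f * (nu u x * 2) := hlo.trans h4
          have h6 : l ∣ f := by
            rcases hl.dvd_mul.1 h5 with h6 | h6
            · exact h6
            · exfalso
              rcases hl.dvd_mul.1 h6 with h7 | h7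
              · have := Nat.le_of_dvd (by omega) h7
                omega
              · have := Nat.le_of_dvd (by norm_num) h7
                omega
          obtain ⟨k, hk⟩ := h6
          have h7 : y ∣ u ^ 2 - 1 := by
            rw [hf, hk, pow_mul]
            refine pow_dvd_aux (hyl.trans ?_)
            have := Nat.sub_dvd_pow_sub_pow (2 ^ l) 1 2
            rwa [one_pow] at this
          have h8 : wU u y ≤ 2 := wU_le (by omega) le_rfl (by rw [if_pos (by decide)]; exact h7)
          have h9 := (dvd_iff hF (by omega) hy).1 (H.dvd y hy.prime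
            (psu_dvd hE (by norm_num) hy.prime (by omega)))
          omega
        rcases pair hF (by norm_num) (by omega) H g3_1093.1 g3_757.1 (by rw [g3_1093.2]; omega)
          (by rw [g3_1093.2, g3_757.2]; norm_num) (by rw [g3_757.2]; omega) with h | h
        · exact key 1093 364 13 8191 g3_1093.1.prime (by norm_num) ord2_1093 h (by norm_num)
            (by norm_num) (by norm_num) g3_8191.1 (by rw [g3_8191.2]; norm_num) (by norm_num)
        · exact key 757 756 7 127 g3_757.1.prime (by norm_num) ord2_757 h (by norm_num)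
            (by norm_num) (by norm_num) g3_127.1 (by rw [g3_127.2]; norm_num) (by norm_num)
    · have h1 := psu_test hF (by omega) (by omega) hE hn H g3_31.1 (A := 6)
        (even_le (by norm_num) (by decide) (by norm_num))
      rw [g3_31.2] at h1
      omega
    · have h1 := psu_test hF (by omega) (by omega) hE hn H g3_17.1 (A := 4)
        (even_le (by norm_num) (by decide) (by norm_num))
      rw [g3_17.2] at h1
      omega
  · rcases cand_five hp hpq hchar with rfl | rfl | rfl | rfl
    · rcases Nat.even_or_odd f with ⟨k, hk⟩ | hfo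
      · have h1 := psu_test hF (by omega) (by omega) hE hn H g5_17.1 (A := 4)
          (wU_le (by omega) (by norm_num) (by
            rw [if_pos (by decide), hf, hk, ← two_mul, pow_mul]
            exact pow_dvd_aux (by norm_num)))
        rw [g5_17.2] at h1
        omega
      · have h1 := psu_test hF (by omega) (by omega) hE hn H g5_43.1 (A := 7)
          (odd_le (by norm_num) (by decide) hfo (by norm_num))
        rw [g5_43.2] at h1
        omega
    · have h1 := psu_test hF (by omega) (by omega) hE hn H g5_61.1 (A := 10)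
        (even_le (by norm_num) (by decide) (by norm_num))
      have h2 := psu_test hF (by omega) (by omega) hE hn H g5_41.1 (A := 8)
        (even_le (by norm_num) (by decide) (by norm_num))
      rw [g5_61.2] at h1
      rw [g5_41.2] at h2
      omega
    · have h1 := psu_test hF (by omega) (by omega) hE hn H g5_17.1 (A := 4)
        (even_le (by norm_num) (by decide) (by norm_num))
      rw [g5_17.2] at h1
      omega
    · have h1 := psu_test hF (by omega) (by omega) hE hn H g5_37.1 (A := 4)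
        (even_le (by norm_num) (by decide) (by norm_num))
      rw [g5_37.2] at h1
      omega

end Cfsg.Agent.H376.LPsl
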