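import Cfsg.Agent.H376.ElimExc
import Mathlib

/-!
# `L = PSL_N(3)`, `N ≥ 9`, or `PSL_N(5)`, `N ≥ 11`: `S ≠ ²F₄(u)`
-/

set_option autoImplicit false

namespace Cfsg.Agent.H376.LPsl

open Finset Cfsg.Agent.H376.Coc Cfsg.Agent.H420.QR Cfsg.Agent.H376.ExcTab Cfsg.Agent.OrdDiv Cfsg.Agent.H436
  Cfsg.Agent.H414.Arith

namespace TF4

def t3 : List (ℕ × List (ℕ × ℕ)) :=
  [(5, [(2, 2)]), (7, [(2, 1), (3, 1)]), (11, [(2, 1), (5, 1)]), (13, [(2, 2), (3, 1)]), (23, [(2, 1), (11,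
    1)]), (41, [(2, 3), (5, 1)]), (61, [(2, 2), (3, 1), (5, 1)]), (73, [(2, 3), (3, 2)]), (757, [(2, 2), (3, 3),
    (7, 1)]), (1093, [(2, 2), (3, 1), (7, 1), (13, 1)]), (3851, [(2, 1), (5, 2), (7, 1), (11, 1)])]

def t5 : List (ℕ × List (ℕ × ℕ)) :=
  [(3, [(2, 1)]), (7, [(2, 1), (3, 1)]), (11, [(2, 1), (5, 1)]), (13, [(2, 2), (3, 1)]), (19, [(2, 1), (3, 2)]),
    (31, [(2, 1), (3, 1), (5, 1)]), (71, [(2, 1), (5, 1), (7, 1)]), (313, [(2, 3), (3, 1), (13, 1)]), (521, [(2,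
    3), (5, 1), (13, 1)]), (601, [(2, 3), (3, 1), (5, 2)]), (829, [(2, 2), (3, 2), (23, 1)]), (19531, [(2, 1),
    (3, 2), (5, 1), (7, 1), (31, 1)]), (12207031, [(2, 1), (3, 1), (5, 1), (11, 1), (71, 1), (521, 1)])]

def lOk (x : ℕ × List (ℕ × ℕ)) : Bool :=
  Nat.beq (H414.Arith.prodl x.2 + 1) x.1 && x.2.all fun y => trialPr y.1 && (Nat.beq y.1 2 || (!(Nat.beq (pe x.1 2 y.1) 1)) ||
    ((Nat.beq x.1 7 && Nat.beq y.1 3) || (Nat.beq x.1 31 && Nat.beq y.1 5) || (Nat.beq x.1 23 && Nat.beq y.1 11)))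

theorem c3 : t3.all lOk = true := by decide +kernel
theorem c5 : t5.all lOk = true := by decide +kernel
theorem f3 : fOk 3 ch3 (2 :: t3.map fun x => x.1) 0 (fs3.take 12) = true := by decide +kernel
theorem f5 : fOk 5 ch5 (2 :: t5.map fun x => x.1) 0 (fs5.take 12) = true := by decide +kernel
theorem ch3_ok : chainB [] ch3 = true := by decide +kernel
theorem ch5_ok : chainB [] ch5 = true := by decide +kernel

/-- primes dividing `2 ^ l - 1` -/
theorem dvd_pred {x l : ℕ} (hx : x.Prime) (hl : l.Prime) (h : x ∣ 2 ^ l - 1) : l ∣ x - 1 := by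
  have := Fact.mk hx
  have h1 : ((2 : ℕ) : ZMod x) ^ l = 1 := by
    have h2 : ((2 ^ l - 1 : ℕ) : ZMod x) = 0 := (ZMod.natCast_eq_zero_iff _ _).2 h
    rw [Nat.cast_sub (Nat.one_le_pow _ _ (by norm_num)), Nat.cast_one, sub_eq_zero, Nat.cast_pow] at h2
    exact h2
  have h3 : orderOf ((2 : ℕ) : ZMod x) ∣ l := orderOf_dvd_of_pow_eq_one h1
  have h4 : orderOf ((2 : ℕ) : ZMod x) ≠ 1 := by
    intro h5
    rw [orderOf_eq_one_iff] at h5
    have h6 : x ∣ 1 := by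
      have h7 : ((1 : ℕ) : ZMod x) = 0 := by
        have h8 : ((2 : ℕ) : ZMod x) = 1 + 1 := by push_cast; norm_num
        rw [Nat.cast_one]
        exact add_left_cancel (h8.symm.trans (h5.trans (add_zero 1).symm))
      exact (ZMod.natCast_eq_zero_iff _ _).1 h7
    exact hx.one_lt.ne' (Nat.dvd_one.1 h6)
  have h5 : orderOf ((2 : ℕ) : ZMod x) = l := ((Nat.dvd_prime hl).1 h3).resolve_left h4
  rw [← h5]
  have hne : ((2 : ℕ) : ZMod x) ≠ 0 := by
    intro h6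
    rw [h6, zero_pow hl.ne_zero] at h1
    exact zero_ne_one h1
  exact orderOf_dvd_of_pow_eq_one (ZMod.pow_card_sub_one_eq_one hne)

theorem of_lOk {x : ℕ × List (ℕ × ℕ)} (h : lOk x = true) {l : ℕ} (hx : x.1.Prime) (hl : l.Prime) (hl2 : l ≠ 2)
    (hd : x.1 ∣ 2 ^ l - 1) : (x.1 = 7 ∧ l = 3) ∨ (x.1 = 31 ∧ l = 5) ∨ (x.1 = 23 ∧ l = 11) := by
  have h0 := dvd_pred hx hl hd
  unfold lOk at h
  rw [Bool.and_eq_true, Nat.beq_eq, List.all_eq_true] at h
  obtain ⟨h1, h2⟩ := h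
  have h3 : l ∣ H414.Arith.prodl x.2 := by
    have h4 : H414.Arith.prodl x.2 = x.1 - 1 := by omega
    rwa [h4]
  obtain ⟨y, hy, hyl⟩ := mem_of_dvd_prodl hl (fun y hy => by
    have h5 := h2 y hy
    rw [Bool.and_eq_true] at h5
    exact prime_of_trialPr h5.1) h3
  have h5 := h2 y hy
  rw [Bool.and_eq_true, hyl, Bool.or_eq_true, Bool.or_eq_true, Bool.or_eq_true, Bool.or_eq_true, Bool.and_eq_true,
    Bool.and_eq_true, Bool.and_eq_true] at h5
  simp only [Nat.beq_eq] at h5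
  rcases h5.2 with (h6 | h6) | (h6 | h6) | h6
  · exact absurd h6 hl2
  · exact absurd hd (not_dvd_of_pe (by norm_num) hx.one_lt h6)
  · exact Or.inl h6
  · exact Or.inr (Or.inl h6)
  · exact Or.inr (Or.inr h6)

theorem dvd_add_one_of_odd {a m g n : ℕ} (h : m ∣ a ^ n + 1) (hg : Odd g) : m ∣ a ^ (n * g) + 1 := by
  rw [pow_mul]
  have h1 : a ^ n + 1 ∣ (a ^ n) ^ g + 1 ^ g := hg.nat_add_dvd_pow_add_pow _ _
  rw [one_pow] at h1
  exact h.trans h1

end TF4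

open TF4

variable {F : Type*} [Field F] [Fintype F] {q N : ℕ} {S : Type*} [Group S]

/-- **`²F₄(u)`** -/
theorem elim_tf4 (hF : Fintype.card F = q) (hq : (q = 3 ∧ 9 ≤ N) ∨ (q = 5 ∧ 11 ≤ N))
    (H : Hyp S (Matrix.ProjectiveSpecialLinearGroup (Fin N) F)) {u : ℕ} (hg : IsNamed (.tf4 u) S) : False := by
  obtain ⟨E, i1, i2, m, hm, hE, hu, ⟨e⟩⟩ := hg.real
  have hcov : Cover S (2 ^ 1) 5 := Cover.congr e (H168.TwF4Cover.tf4_cover (hE.trans hu))
  have hN : N ≤ 12 := by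
    have := (le_of_cover hF hq H Nat.prime_two hcov).2 (by norm_num)
    omega
  have heq : 1 * Nat.card S = u ^ 12 * ((u - 1) * (u ^ 3 + 1) * (u ^ 4 - 1) * (u ^ 6 + 1)) := hg.eq
  rw [one_mul] at heq
  have key : ∀ x : ℕ, x.Prime → x ≠ q → x ∣ u - 1 ∨ x ∣ u ^ 3 + 1 ∨ x ∣ u ^ 6 + 1 →
      ∃ k, 1 ≤ k ∧ k ≤ 12 ∧ x ∣ q ^ k - 1 := by
    intro x hx hxq h
    have h1 : x ∣ Nat.card S := by
      rw [heq]
      apply dvd_mul_of_dvd_right
      rcases h with h | h | h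
      · exact ((h.mul_right _).mul_right _).mul_right _
      · exact ((h.mul_left _).mul_right _).mul_right _
      · exact h.mul_left _
    obtain ⟨k, a, b, c⟩ := exists_pow_of_dvd hF hq H hx h1 hxq
    exact ⟨k, a, b.trans hN, c⟩
  -- a prime divisor `l` of `2 m + 1` and a prime divisor `x` of `2 ^ l - 1`
  have hf1 : 2 * m + 1 ≠ 1 := by omega
  obtain ⟨l, hl, hlf⟩ := Nat.exists_prime_and_dvd hf1
  obtain ⟨g, hg'⟩ := hlf
  have hodd : Odd (l * g) := by rw [← hg']; exact ⟨m, rfl⟩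
  have hlo : Odd l := (Nat.odd_mul.1 hodd).1
  have hgo : Odd g := (Nat.odd_mul.1 hodd).2
  have hl2 : l ≠ 2 := by
    rintro rfl
    exact absurd hlo (by decide)
  have hdl : 2 ^ l - 1 ∣ u - 1 := by
    rw [hu, hg', pow_mul]
    have h3 := Nat.sub_dvd_pow_sub_pow (2 ^ l) 1 g
    rwa [one_pow] at h3
  have h2l : 2 ^ l - 1 ≠ 1 := by
    have h4 : 2 ^ 2 ≤ 2 ^ l := Nat.pow_le_pow_right (by norm_num) hl.two_le
    omega
  obtain ⟨x, hx, hxl⟩ := Nat.exists_prime_and_dvd h2l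
  have hxq : x ≠ q := by
    rintro rfl
    have h3 := dvd_pred hx hl hxl
    rcases id hq with ⟨h, -⟩ | ⟨h, -⟩
    · subst h
      exact hl2 ((Nat.prime_dvd_prime_iff_eq hl Nat.prime_two).1 h3)
    · subst h
      exact hl2 ((Nat.prime_dvd_prime_iff_eq hl Nat.prime_two).1 (hl.dvd_of_dvd_pow (show l ∣ 2 ^ 2 from h3)))
  obtain ⟨k, hk1, hk2, hk⟩ := key x hx hxq (Or.inl (hxl.trans hdl))
  have hx2 : x ≠ 2 := by
    rintro rfl
    have h3 : 1 ≤ 2 ^ l := Nat.one_le_pow _ _ (by norm_num)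
    have h4 : 2 ∣ 2 ^ l := dvd_pow_self 2 hl.ne_zero
    omega
  -- the list of the possible `x`
  have hx3 : (x = 7 ∧ l = 3) ∨ (x = 31 ∧ l = 5) ∨ (x = 23 ∧ l = 11) := by
    rcases id hq with ⟨h, -⟩ | ⟨h, -⟩
    · subst h
      have h3 := fOk_spec ch3_ok _ 0 f3 x k hx (by omega) (by simpa [fs3] using hk2) hk
      rcases List.mem_cons.1 h3 with h3 | h3
      · exact absurd h3 hx2
      · obtain ⟨y, hy, rfl⟩ := List.mem_map.1 h3
        exact of_lOk (List.all_eq_true.1 c3 y hy) hx hl hl2 hxl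
    · subst h
      have h3 := fOk_spec ch5_ok _ 0 f5 x k hx (by omega) (by simpa [fs5] using hk2) hk
      rcases List.mem_cons.1 h3 with h3 | h3
      · exact absurd h3 hx2
      · obtain ⟨y, hy, rfl⟩ := List.mem_map.1 h3
        exact of_lOk (List.all_eq_true.1 c5 y hy) hx hl hl2 hxl
  clear hk hk1 hk2 k
  have hu3 : u ^ 3 = 2 ^ (3 * l * g) := by rw [hu, hg', ← pow_mul]; congr 1; ring
  have hu6 : u ^ 6 = 2 ^ (6 * l * g) := by rw [hu, hg', ← pow_mul]; congr 1; ring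
  rcases hx3 with ⟨-, rfl⟩ | ⟨-, rfl⟩ | ⟨-, rfl⟩
  · -- `3 ∣ f`: 19 and 37
    rcases id hq with ⟨h, -⟩ | ⟨h, -⟩
    · subst h
      obtain ⟨k, hk1, hk2, hk⟩ := key 19 (by norm_num) (by norm_num) (Or.inr (Or.inl (by
        rw [hu3]; exact dvd_add_one_of_odd (by decide +kernel) hgo)))
      revert hk
      interval_cases k <;> decide +kernel
    · subst h
      obtain ⟨k, hk1, hk2, hk⟩ := key 37 (by norm_num) (by norm_num) (Or.inr (Or.inr (by
        rw [hu6]; exact dvd_add_one_of_odd (by decide +kernel) hgo)))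
      revert hk
      interval_cases k <;> decide +kernel
  · -- `5 ∣ f`: 331
    rcases id hq with ⟨h, -⟩ | ⟨h, -⟩
    · subst h
      obtain ⟨k, hk1, hk2, hk⟩ := key 331 (by norm_num) (by norm_num) (Or.inr (Or.inl (by
        rw [hu3]; exact dvd_add_one_of_odd (by decide +kernel) hgo)))
      revert hk
      interval_cases k <;> decide +kernel
    · subst h
      obtain ⟨k, hk1, hk2, hk⟩ := key 331 (by norm_num) (by norm_num) (Or.inr (Or.inl (by
        rw [hu3]; exact dvd_add_one_of_odd (by decide +kernel) hgo)))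
      revert hk
      interval_cases k <;> decide +kernel
  · -- `11 ∣ f`: 89
    have h89 : 89 ∣ u - 1 := dvd_trans (by decide +kernel) hdl
    rcases id hq with ⟨h, -⟩ | ⟨h, -⟩
    · subst h
      obtain ⟨k, hk1, hk2, hk⟩ := key 89 (by norm_num) (by norm_num) (Or.inl h89)
      revert hk
      interval_cases k <;> decide +kernel
    · subst h
      obtain ⟨k, hk1, hk2, hk⟩ := key 89 (by norm_num) (by norm_num) (Or.inl h89)
      revert hk
      interval_cases k <;> decide +kernel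

end Cfsg.Agent.H376.LPsl
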