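import Cfsg.Agent.H376.ElimPsl
import Cfsg.Agent.H376.ElimPsp
import Cfsg.Agent.H376.ElimPsu
import Cfsg.Agent.H376.ElimAlt
import Cfsg.Agent.H376.ElimOrthB
import Cfsg.Agent.H376.ElimOdd
import Cfsg.Agent.H376.ElimTF4
import Mathlib

/-!
# `L = PSL_N(3)`, `N ≥ 9`, or `PSL_N(5)`, `N ≥ 11`: all simple groups `S` outside of the characteristic of `L`

`same_char` : a named simple group `S` with `Hyp S L` is a group of Lie type over a field with `q ^ f` elements.
-/

set_option autoImplicit false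

namespace Cfsg.Agent.H376.LPsl

open Finset Cfsg Cfsg.Agent.H376.Coc Cfsg.Agent.OrdDiv Cfsg.Agent.H436

variable {F : Type*} [Field F] [Fintype F] {q N : ℕ} {S : Type*} [Group S]

/-- the number of elements of the field, 0 for the groups which are not of Lie type -/
def fieldOf : Grp → ℕ
  | .psl _ q => q
  | .psp _ q => q
  | .psu _ q => q
  | .oodd _ q => q
  | .oplus _ q => q
  | .ominus _ q => q
  | .g2 q => q
  | .f4 q => q
  | .e6 q => q
  | .e7 q => q
  | .e8 q => q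
  | .te6 q => q
  | .td4 q => q
  | .sz q => q
  | .ree q => q
  | .tf4 q => q
  | _ => 0

theorem same_char (hF : Fintype.card F = q) (hq : (q = 3 ∧ 9 ≤ N) ∨ (q = 5 ∧ 11 ≤ N))
    (H : Hyp S (Matrix.ProjectiveSpecialLinearGroup (Fin N) F)) {g : Grp} (hg : IsNamed g S) :
    ∃ f : ℕ, f ≠ 0 ∧ fieldOf g = q ^ f := by
  have spor : Nat.card S ∈ H437.sporList → ∃ f : ℕ, f ≠ 0 ∧ fieldOf g = q ^ f :=
    fun h => (elim_spor hF hq h H).elim
  cases g with
  | alt n =>
    obtain ⟨e⟩ := hg.real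
    exact (elim_alt hF hq (H.congr e)).elim
  | psl n u =>
    obtain ⟨E, _, _, hE, ⟨e⟩⟩ := hg.real
    have h := elim_psl hF hq hg.cond.1 (H.congr e)
    rwa [hE] at h
  | psp n u =>
    obtain ⟨E, _, _, hE, ⟨e⟩⟩ := hg.real
    have h := elim_psp hF hq hg.cond.1 (H.congr e)
    rwa [hE] at h
  | psu n u =>
    obtain ⟨E, _, _, hE, ⟨e⟩⟩ := hg.real
    exact elim_psu hF hq hE hg.cond.1 (H.congr e)
  | oodd n u =>
    obtain ⟨E, _, _, hE, ⟨e⟩⟩ := hg.real
    have h := elim_oodd hF hq (by rw [hE]; exact hg.cond.2.1) hg.cond.1 (H.congr e)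
    rwa [hE] at h
  | oplus n u =>
    obtain ⟨E, _, _, hE, ⟨e⟩⟩ := hg.real
    have h := elim_oplus hF hq hg.cond.1 (H.congr e)
    rwa [hE] at h
  | ominus n u =>
    obtain ⟨E, _, _, a, b, hE, hab, ⟨e⟩⟩ := hg.real
    have h := elim_ominus hF hq hg.cond.1 hab (H.congr e)
    rwa [hE] at h
  | g2 u => exact elim_g2 hF hq H hg
  | f4 u => exact elim_f4 hF hq H hg
  | e6 u => exact elim_e6 hF hq H hg
  | e7 u => exact elim_e7 hF hq H hg
  | e8 u => exact elim_e8 hF hq H hg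
  | te6 u => exact elim_te6 hF hq H hg
  | td4 u => exact elim_td4 hF hq H hg
  | sz u => exact (elim_sz hF hq H hg).elim
  | ree u => exact elim_ree hF hq H hg
  | tf4 u => exact (elim_tf4 hF hq H hg).elim
  | _ => exact spor (by rw [hg.ord]; decide +kernel)

end Cfsg.Agent.H376.LPsl
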