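import Cfsg.Agent.H376.SidePsl
import Cfsg.Agent.H376.ExcTab
import Cfsg.Agent.H168.ExcCoc
import Cfsg.Agent.H436.Names
import Mathlib

/-!
# `L = PSL_N(3)`, `N ≥ 9`, or `PSL_N(5)`, `N ≥ 11`: exceptional `S` has the characteristic of `L`
-/

set_option autoImplicit false

namespace Cfsg.Agent.H376.LPsl

open Finset Cfsg.Agent.H376.Coc Cfsg.Agent.H420.QR Cfsg.Agent.H376.ExcTab Cfsg.Agent.OrdDiv Cfsg.Agent.H436

variable {F : Type*} [Field F] [Fintype F] {q N : ℕ} {S : Type*} [Group S]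

/-- the primes of `S` -/
theorem exists_pow_of_dvd (hF : Fintype.card F = q) (hq : (q = 3 ∧ 9 ≤ N) ∨ (q = 5 ∧ 11 ≤ N))
    (H : Hyp S (Matrix.ProjectiveSpecialLinearGroup (Fin N) F)) {r : ℕ} (hr : r.Prime) (hrS : r ∣ Nat.card S)
    (hrq : r ≠ q) : ∃ k, 1 ≤ k ∧ k ≤ N ∧ r ∣ q ^ k - 1 := by
  by_cases h2 : r = 2
  · refine ⟨1, le_rfl, by omega, ?_⟩
    rcases hq with ⟨h, -⟩ | ⟨h, -⟩ <;> subst h <;> subst h2 <;> decide
  · have hqp : q.Prime := by
      rcases hq with ⟨h, -⟩ | ⟨h, -⟩ <;> subst h <;> norm_num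
    have hcop : ¬ r ∣ q := fun h => hrq ((Nat.prime_dvd_prime_iff_eq hr hqp).1 h)
    have := Fact.mk hr
    have h0 : ((q : ℕ) : ZMod r) ≠ 0 := by
      rw [Ne, ZMod.natCast_eq_zero_iff]
      exact hcop
    have hpos : 0 < orderOf ((q : ℕ) : ZMod r) := by
      rw [orderOf_pos_iff, isOfFinOrder_iff_pow_eq_one]
      exact ⟨r - 1, by have := hr.two_le; omega, ZMod.pow_card_sub_one_eq_one h0⟩
    have hone : orderOf ((q : ℕ) : ZMod r) ≠ 1 := by
      intro h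
      rw [orderOf_eq_one_iff] at h
      have h3 : r ∣ q - 1 := by
        rw [← ZMod.natCast_eq_zero_iff, Nat.cast_sub (by omega), h, Nat.cast_one, sub_self]
      rcases hq with ⟨h, -⟩ | ⟨h, -⟩
      · subst h
        exact h2 ((Nat.prime_dvd_prime_iff_eq hr Nat.prime_two).1 h3)
      · subst h
        have h4 : r ∣ 2 ^ 2 := h3
        exact h2 ((Nat.prime_dvd_prime_iff_eq hr Nat.prime_two).1 (hr.dvd_of_dvd_pow h4))
    have hg : Good q r := ⟨hr, h2, hcop, by omega⟩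
    refine ⟨orderOf ((q : ℕ) : ZMod r), hpos, (dvd_iff hF (by omega) hg).1 (H.dvd r hr hrS), ?_⟩
    rw [← ZMod.natCast_eq_zero_iff, Nat.cast_sub (Nat.one_le_pow _ _ (by omega)), Nat.cast_pow,
      pow_orderOf_eq_one, Nat.cast_one, sub_self]

/-- the bound for `N` from a cover -/
theorem le_of_cover (hF : Fintype.card F = q) (hq : (q = 3 ∧ 9 ≤ N) ∨ (q = 5 ∧ 11 ≤ N))
    (H : Hyp S (Matrix.ProjectiveSpecialLinearGroup (Fin N) F)) {p f c : ℕ} (hp : p.Prime)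
    (hcov : Cover S (p ^ f) c) : N - N / 2 ≤ c + 2 ∧ (p ≤ 3 → N - N / 2 ≤ c + 1) := by
  classical
  obtain ⟨D, hD, hcard, hgood⟩ := top hF (by omega) (by omega) H
  have h3 : ∀ r ∈ D, 3 < r := fun r hr => by
    obtain ⟨a, b, -⟩ := hgood r hr
    have := lt_of_good a
    omega
  have key : (D.erase p).card ≤ c := by
    refine hcov.card_le _ (fun r hr => ?_) fun r hr s hs hrs => ?_
    · obtain ⟨hrp, hrC⟩ := Finset.mem_erase.1 hr
      refine ⟨hD.prime r hrC, h3 r hrC, fun hd => hrp ?_, hD.dvd r hrC⟩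
      exact (Nat.prime_dvd_prime_iff_eq (hD.prime r hrC) hp).1 ((hD.prime r hrC).dvd_of_dvd_pow hd)
    · exact hD.indep r (Finset.mem_of_mem_erase hr) s (Finset.mem_of_mem_erase hs) hrs
  have h2 := Finset.pred_card_le_card_erase (s := D) (a := p)
  refine ⟨by omega, fun hp3 => ?_⟩
  have h4 : p ∉ D := fun h => by have := h3 p h; omega
  rw [Finset.erase_eq_of_notMem h4] at key
  omega

/-- **The elimination with a table.** -/
theorem false_of_chk (hF : Fintype.card F = q) (hq : (q = 3 ∧ 9 ≤ N) ∨ (q = 5 ∧ 11 ≤ N))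
    (H : Hyp S (Matrix.ProjectiveSpecialLinearGroup (Fin N) F)) {p f d M : ℕ} (hp : p.Prime) (hpq : p ≠ q)
    (hf : f ≠ 0) (hd : d ∣ 12) (hdp : ¬ p ∣ d) (heq : d * Nat.card S = M) (hpM : p ∣ M) {N0 : ℕ} (hN : N ≤ N0)
    {ch : List (ℕ × ℕ × List (ℕ × ℕ))} {fs : List (List (ℕ × ℕ))} {ws : List (ℕ × ℕ × ℕ)} {degs ex : List ℕ}
    (h : chk q N0 ch fs ws degs ex = true) (hex : p ∉ ex) (hdeg : ∀ j ∈ degs, (p ^ f) ^ j - 1 ∣ M) : False := by
  have hpS : p ∣ Nat.card S := by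
    rw [← heq] at hpM
    exact (hp.dvd_mul.1 hpM).resolve_left hdp
  obtain ⟨k, hk1, hkN, hk⟩ := exists_pow_of_dvd hF hq H hp hpS hpq
  rcases chk_spec (by omega) h hp hk1 (hkN.trans hN) hk with h1 | ⟨x, j, hx, hx5, hxq, hj, hxj, hxk⟩
  · exact hex h1
  · have h2 : x ∣ M := by
      refine dvd_trans ?_ (hdeg j hj)
      refine dvd_trans hxj ?_
      rw [← pow_mul, mul_comm f j, pow_mul]
      have h3 := Nat.sub_dvd_pow_sub_pow (p ^ j) 1 f
      rwa [one_pow] at h3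
    have h3 : x ∣ Nat.card S := by
      rw [← heq] at h2
      refine (hx.dvd_mul.1 h2).resolve_left fun h4 => ?_
      have h5 : x ∣ 2 ^ 2 * 3 := h4.trans hd
      rcases hx.dvd_mul.1 h5 with h6 | h6
      · have := (Nat.prime_dvd_prime_iff_eq hx Nat.prime_two).1 (hx.dvd_of_dvd_pow h6)
        omega
      · have := (Nat.prime_dvd_prime_iff_eq hx Nat.prime_three).1 h6
        omega
    obtain ⟨k', h4, h5, h6⟩ := exists_pow_of_dvd hF hq H hx h3 hxq
    exact hxk k' h4 (h5.trans hN) h6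

/-- the final step for the untwisted names -/
theorem step (hF : Fintype.card F = q) (hq : (q = 3 ∧ 9 ≤ N) ∨ (q = 5 ∧ 11 ≤ N))
    (H : Hyp S (Matrix.ProjectiveSpecialLinearGroup (Fin N) F)) {u d M a R : ℕ} (hu : IsPrimePow u)
    (hd : d ∣ 12) (hdu : ∀ p : ℕ, p.Prime → p ∣ u → ¬ p ∣ d) (heq : d * Nat.card S = M) (hM : M = u ^ a * R)
    (ha : a ≠ 0) {degs : List ℕ} (hdeg : ∀ j ∈ degs, u ^ j - 1 ∣ M)
    (hchk : ∀ p : ℕ, p.Prime → p ∣ u → p ≠ q → ∃ (N0 : ℕ) (ch : List (ℕ × ℕ × List (ℕ × ℕ)))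
      (fs : List (List (ℕ × ℕ))) (ws : List (ℕ × ℕ × ℕ)) (ex : List ℕ), N ≤ N0 ∧ chk q N0 ch fs ws degs ex = true ∧
      p ∉ ex) : ∃ f : ℕ, f ≠ 0 ∧ u = q ^ f := by
  obtain ⟨p, f, hp, hf, rfl⟩ := hu
  have hpn := hp.nat_prime
  by_cases hpq : p = q
  · exact ⟨f, hf.ne', by rw [hpq]⟩
  · exfalso
    have hpu : p ∣ p ^ f := dvd_pow_self p hf.ne'
    obtain ⟨N0, ch, fs, ws, ex, h1, h2, h3⟩ := hchk p hpn hpu hpq
    refine false_of_chk hF hq H hpn hpq hf.ne' hd (hdu p hpn hpu) heq ?_ h1 h2 h3 hdeg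
    rw [hM, ← pow_mul]
    exact (dvd_pow_self p (Nat.mul_ne_zero hf.ne' ha)).mul_right _

theorem not_dvd_gcd_sub {u p n : ℕ} (hu : 1 ≤ u) (hp : p.Prime) (h : p ∣ u) : ¬ p ∣ Nat.gcd n (u - 1) := by
  intro h1
  have h2 := h1.trans (Nat.gcd_dvd_right _ _)
  have h3 : p ∣ 1 := by
    have := Nat.dvd_sub h h2
    rwa [Nat.sub_sub_self hu] at this
  exact hp.one_lt.ne' (Nat.dvd_one.1 h3)

theorem not_dvd_gcd_add {u p n : ℕ} (hp : p.Prime) (h : p ∣ u) : ¬ p ∣ Nat.gcd n (u + 1) := by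
  intro h1
  have h2 := h1.trans (Nat.gcd_dvd_right _ _)
  have h3 : p ∣ 1 := (Nat.dvd_add_right h).1 h2
  exact hp.one_lt.ne' (Nat.dvd_one.1 h3)

/-- **`G₂(u)`** -/
theorem elim_g2 (hF : Fintype.card F = q) (hq : (q = 3 ∧ 9 ≤ N) ∨ (q = 5 ∧ 11 ≤ N))
    (H : Hyp S (Matrix.ProjectiveSpecialLinearGroup (Fin N) F)) {u : ℕ} (hg : IsNamed (.g2 u) S) :
    ∃ f : ℕ, f ≠ 0 ∧ u = q ^ f := by
  obtain ⟨E, _, _, hE, ⟨e⟩⟩ := hg.real
  have hcov : Cover S u 3 := hE ▸ Cover.congr e H168.ExcCover.g2_cover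
  have heq : 1 * Nat.card S = u ^ 6 * ((u ^ 2 - 1) * (u ^ 6 - 1)) := hg.eq
  refine step hF hq H hg.cond.2 (by norm_num) (fun p hp _ h => hp.one_lt.ne' (Nat.dvd_one.1 h)) heq rfl (by norm_num)
    (degs := d2) (fun j hj => ?_) fun p hp hpu hpq => ?_
  · simp only [d2, List.mem_cons, List.not_mem_nil, or_false] at hj
    rcases hj with rfl | rfl
    · exact (dvd_mul_right _ _).mul_left _
    · exact (dvd_mul_left _ _).mul_left _
  · obtain ⟨p', f, hp', hf, rfl⟩ := hg.cond.2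
    obtain rfl : p = p' := (Nat.prime_dvd_prime_iff_eq hp hp'.nat_prime).1 (hp.dvd_of_dvd_pow hpu)
    obtain ⟨b1, b2⟩ := le_of_cover hF hq H hp hcov
    have hq3 : q = 3 := by omega
    subst hq3
    refine ⟨10, ch3, fs3.take 10, w3g2, [2], by omega, c3g2, fun h => ?_⟩
    rw [List.mem_singleton] at h
    have := b2 (by omega)
    omega

/-- **`³D₄(u)`** -/
theorem elim_td4 (hF : Fintype.card F = q) (hq : (q = 3 ∧ 9 ≤ N) ∨ (q = 5 ∧ 11 ≤ N))
    (H : Hyp S (Matrix.ProjectiveSpecialLinearGroup (Fin N) F)) {u : ℕ} (hg : IsNamed (.td4 u) S) :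
    ∃ f : ℕ, f ≠ 0 ∧ u = q ^ f := by
  obtain ⟨E, _, _, hE, ⟨e⟩⟩ := hg.real
  have hu : IsPrimePow u := hg.cond
  have hcov : Cover S u 3 := Cover.congr e (H168.TwCover.td4_cover hE hu)
  have heq : 1 * Nat.card S = u ^ 12 * ((u ^ 2 - 1) * (u ^ 6 - 1) * (u ^ 8 + u ^ 4 + 1)) := hg.eq
  refine step hF hq H hu (by norm_num) (fun p hp _ h => hp.one_lt.ne' (Nat.dvd_one.1 h)) heq rfl (by norm_num)
    (degs := d2) (fun j hj => ?_) fun p hp hpu hpq => ?_
  · simp only [d2, List.mem_cons, List.not_mem_nil, or_false] at hj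
    rcases hj with rfl | rfl
    · exact ((dvd_mul_right _ _).mul_right _).mul_left _
    · exact ((dvd_mul_left _ _).mul_right _).mul_left _
  · obtain ⟨p', f, hp', hf, rfl⟩ := hu
    obtain rfl : p = p' := (Nat.prime_dvd_prime_iff_eq hp hp'.nat_prime).1 (hp.dvd_of_dvd_pow hpu)
    obtain ⟨b1, b2⟩ := le_of_cover hF hq H hp hcov
    have hq3 : q = 3 := by omega
    subst hq3
    refine ⟨10, ch3, fs3.take 10, w3g2, [2], by omega, c3g2, fun h => ?_⟩
    rw [List.mem_singleton] at h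
    have := b2 (by omega)
    omega

/-- the table for `F₄`, `E₆`, `²E₆` -/
theorem tab6 (hq : (q = 3 ∧ 9 ≤ N) ∨ (q = 5 ∧ 11 ≤ N)) (hN : N - N / 2 ≤ 5 + 2) (p : ℕ) :
    ∃ (N0 : ℕ) (ch : List (ℕ × ℕ × List (ℕ × ℕ)))
      (fs : List (List (ℕ × ℕ))) (ws : List (ℕ × ℕ × ℕ)) (ex : List ℕ), N ≤ N0 ∧ chk q N0 ch fs ws d6 ex = true ∧
      p ∉ ex := by
  rcases hq with ⟨h, h9⟩ | ⟨h, h9⟩ <;> subst h
  · exact ⟨14, ch3, fs3.take 14, w3e6, [], by omega, c3e6, List.not_mem_nil⟩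
  · exact ⟨14, ch5, fs5.take 14, w5e6, [], by omega, c5e6, List.not_mem_nil⟩

/-- **`F₄(u)`** -/
theorem elim_f4 (hF : Fintype.card F = q) (hq : (q = 3 ∧ 9 ≤ N) ∨ (q = 5 ∧ 11 ≤ N))
    (H : Hyp S (Matrix.ProjectiveSpecialLinearGroup (Fin N) F)) {u : ℕ} (hg : IsNamed (.f4 u) S) :
    ∃ f : ℕ, f ≠ 0 ∧ u = q ^ f := by
  obtain ⟨E, _, _, hE, ⟨e⟩⟩ := hg.real
  have hu : IsPrimePow u := hg.cond
  have hcov : Cover S u 5 := hE ▸ Cover.congr e H168.ExcCover.f4_cover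
  have heq : 1 * Nat.card S = u ^ 24 * ((u ^ 2 - 1) * (u ^ 6 - 1) * (u ^ 8 - 1) * (u ^ 12 - 1)) := hg.eq
  refine step hF hq H hu (by norm_num) (fun p hp _ h => hp.one_lt.ne' (Nat.dvd_one.1 h)) heq rfl (by norm_num)
    (degs := d6) (fun j hj => ?_) fun p hp hpu hpq => ?_
  · simp only [d6, List.mem_cons, List.not_mem_nil, or_false] at hj
    rcases hj with rfl | rfl | rfl | rfl
    · exact (((dvd_mul_right _ _).mul_right _).mul_right _).mul_left _
    · exact (((dvd_mul_left _ _).mul_right _).mul_right _).mul_left _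
    · exact ((dvd_mul_left _ _).mul_right _).mul_left _
    · exact (dvd_mul_left _ _).mul_left _
  · obtain ⟨p', f, hp', hf, rfl⟩ := hu
    obtain rfl : p = p' := (Nat.prime_dvd_prime_iff_eq hp hp'.nat_prime).1 (hp.dvd_of_dvd_pow hpu)
    exact tab6 hq (le_of_cover hF hq H hp hcov).1 p

/-- **`E₆(u)`** -/
theorem elim_e6 (hF : Fintype.card F = q) (hq : (q = 3 ∧ 9 ≤ N) ∨ (q = 5 ∧ 11 ≤ N))
    (H : Hyp S (Matrix.ProjectiveSpecialLinearGroup (Fin N) F)) {u : ℕ} (hg : IsNamed (.e6 u) S) :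
    ∃ f : ℕ, f ≠ 0 ∧ u = q ^ f := by
  obtain ⟨E, _, _, hE, ⟨e⟩⟩ := hg.real
  have hu : IsPrimePow u := hg.cond
  have hcov : Cover S u 5 := hE ▸ Cover.congr e H168.ExcCover.e6_cover
  have heq : Nat.gcd 3 (u - 1) * Nat.card S = u ^ 36 * ((u ^ 2 - 1) * (u ^ 5 - 1) * (u ^ 6 - 1) * (u ^ 8 - 1) *
    (u ^ 9 - 1) * (u ^ 12 - 1)) := hg.eq
  refine step hF hq H hu ((Nat.gcd_dvd_left _ _).trans (by norm_num))
    (fun p hp h => not_dvd_gcd_sub (le_of_lt hu.one_lt) hp h) heq rfl (by norm_num)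
    (degs := d6) (fun j hj => ?_) fun p hp hpu hpq => ?_
  · simp only [d6, List.mem_cons, List.not_mem_nil, or_false] at hj
    rcases hj with rfl | rfl | rfl | rfl
    · exact (((((dvd_mul_right _ _).mul_right _).mul_right _).mul_right _).mul_right _).mul_left _
    · exact ((((dvd_mul_left _ _).mul_right _).mul_right _).mul_right _).mul_left _
    · exact (((dvd_mul_left _ _).mul_right _).mul_right _).mul_left _
    · exact (dvd_mul_left _ _).mul_left _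
  · obtain ⟨p', f, hp', hf, rfl⟩ := hu
    obtain rfl : p = p' := (Nat.prime_dvd_prime_iff_eq hp hp'.nat_prime).1 (hp.dvd_of_dvd_pow hpu)
    exact tab6 hq (le_of_cover hF hq H hp hcov).1 p

/-- **`²E₆(u)`** -/
theorem elim_te6 (hF : Fintype.card F = q) (hq : (q = 3 ∧ 9 ≤ N) ∨ (q = 5 ∧ 11 ≤ N))
    (H : Hyp S (Matrix.ProjectiveSpecialLinearGroup (Fin N) F)) {u : ℕ} (hg : IsNamed (.te6 u) S) :
    ∃ f : ℕ, f ≠ 0 ∧ u = q ^ f := by
  obtain ⟨E, _, _, hE, ⟨e⟩⟩ := hg.real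
  have hu : IsPrimePow u := hg.cond
  have hcov : Cover S u 5 := Cover.congr e (H168.TwCover.te6_cover hE hu)
  have heq : Nat.gcd 3 (u + 1) * Nat.card S = u ^ 36 * ((u ^ 2 - 1) * (u ^ 5 + 1) * (u ^ 6 - 1) * (u ^ 8 - 1) *
    (u ^ 9 + 1) * (u ^ 12 - 1)) := hg.eq
  refine step hF hq H hu ((Nat.gcd_dvd_left _ _).trans (by norm_num))
    (fun p hp h => not_dvd_gcd_add hp h) heq rfl (by norm_num)
    (degs := d6) (fun j hj => ?_) fun p hp hpu hpq => ?_
  · simp only [d6, List.mem_cons, List.not_mem_nil, or_false] at hj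
    rcases hj with rfl | rfl | rfl | rfl
    · exact (((((dvd_mul_right _ _).mul_right _).mul_right _).mul_right _).mul_right _).mul_left _
    · exact ((((dvd_mul_left _ _).mul_right _).mul_right _).mul_right _).mul_left _
    · exact (((dvd_mul_left _ _).mul_right _).mul_right _).mul_left _
    · exact (dvd_mul_left _ _).mul_left _
  · obtain ⟨p', f, hp', hf, rfl⟩ := hu
    obtain rfl : p = p' := (Nat.prime_dvd_prime_iff_eq hp hp'.nat_prime).1 (hp.dvd_of_dvd_pow hpu)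
    exact tab6 hq (le_of_cover hF hq H hp hcov).1 p

/-- **`E₇(u)`** -/
theorem elim_e7 (hF : Fintype.card F = q) (hq : (q = 3 ∧ 9 ≤ N) ∨ (q = 5 ∧ 11 ≤ N))
    (H : Hyp S (Matrix.ProjectiveSpecialLinearGroup (Fin N) F)) {u : ℕ} (hg : IsNamed (.e7 u) S) :
    ∃ f : ℕ, f ≠ 0 ∧ u = q ^ f := by
  obtain ⟨E, _, _, hE, ⟨e⟩⟩ := hg.real
  have hu : IsPrimePow u := hg.cond
  have hcov : Cover S u 8 := hE ▸ Cover.congr e H168.ExcCover.e7_cover
  have heq : Nat.gcd 2 (u - 1) * Nat.card S = u ^ 63 * ((u ^ 2 - 1) * (u ^ 6 - 1) * (u ^ 8 - 1) * (u ^ 10 - 1) *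
    (u ^ 12 - 1) * (u ^ 14 - 1) * (u ^ 18 - 1)) := hg.eq
  refine step hF hq H hu ((Nat.gcd_dvd_left _ _).trans (by norm_num))
    (fun p hp h => not_dvd_gcd_sub (le_of_lt hu.one_lt) hp h) heq rfl (by norm_num)
    (degs := d7) (fun j hj => ?_) fun p hp hpu hpq => ?_
  · simp only [d7, List.mem_cons, List.not_mem_nil, or_false] at hj
    rcases hj with rfl | rfl | rfl | rfl | rfl | rfl | rfl
    · exact ((((((dvd_mul_right _ _).mul_right _).mul_right _).mul_right _).mul_right _).mul_right _).mul_left _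
    · exact ((((((dvd_mul_left _ _).mul_right _).mul_right _).mul_right _).mul_right _).mul_right _).mul_left _
    · exact (((((dvd_mul_left _ _).mul_right _).mul_right _).mul_right _).mul_right _).mul_left _
    · exact ((((dvd_mul_left _ _).mul_right _).mul_right _).mul_right _).mul_left _
    · exact (((dvd_mul_left _ _).mul_right _).mul_right _).mul_left _
    · exact ((dvd_mul_left _ _).mul_right _).mul_left _
    · exact (dvd_mul_left _ _).mul_left _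
  · obtain ⟨p', f, hp', hf, rfl⟩ := hu
    obtain rfl : p = p' := (Nat.prime_dvd_prime_iff_eq hp hp'.nat_prime).1 (hp.dvd_of_dvd_pow hpu)
    have hN := (le_of_cover hF hq H hp hcov).1
    rcases hq with ⟨h, h9⟩ | ⟨h, h9⟩ <;> subst h
    · exact ⟨20, ch3, fs3, w3e7, [], by omega, c3e7, List.not_mem_nil⟩
    · exact ⟨20, ch5, fs5.take 20, w5e7, [], by omega, c5e7, List.not_mem_nil⟩

/-- **`E₈(u)`** -/
theorem elim_e8 (hF : Fintype.card F = q) (hq : (q = 3 ∧ 9 ≤ N) ∨ (q = 5 ∧ 11 ≤ N))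
    (H : Hyp S (Matrix.ProjectiveSpecialLinearGroup (Fin N) F)) {u : ℕ} (hg : IsNamed (.e8 u) S) :
    ∃ f : ℕ, f ≠ 0 ∧ u = q ^ f := by
  obtain ⟨E, _, _, hE, ⟨e⟩⟩ := hg.real
  have hu : IsPrimePow u := hg.cond
  have hcov : Cover S u 12 := hE ▸ Cover.congr e H168.ExcCover.e8_cover
  have heq : 1 * Nat.card S = u ^ 120 * ((u ^ 2 - 1) * (u ^ 8 - 1) * (u ^ 12 - 1) * (u ^ 14 - 1) * (u ^ 18 - 1) *
    (u ^ 20 - 1) * (u ^ 24 - 1) * (u ^ 30 - 1)) := hg.eq
  refine step hF hq H hu (by norm_num) (fun p hp _ h => hp.one_lt.ne' (Nat.dvd_one.1 h)) heq rfl (by norm_num)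
    (degs := d8) (fun j hj => ?_) fun p hp hpu hpq => ?_
  · simp only [d8, List.mem_cons, List.not_mem_nil, or_false] at hj
    rcases hj with rfl | rfl | rfl | rfl | rfl | rfl | rfl | rfl
    · exact (((((((dvd_mul_right _ _).mul_right _).mul_right _).mul_right _).mul_right _).mul_right
        _).mul_right _).mul_left _
    · exact (((((((dvd_mul_left _ _).mul_right _).mul_right _).mul_right _).mul_right _).mul_right
        _).mul_right _).mul_left _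
    · exact ((((((dvd_mul_left _ _).mul_right _).mul_right _).mul_right _).mul_right _).mul_right _).mul_left _
    · exact (((((dvd_mul_left _ _).mul_right _).mul_right _).mul_right _).mul_right _).mul_left _
    · exact ((((dvd_mul_left _ _).mul_right _).mul_right _).mul_right _).mul_left _
    · exact (((dvd_mul_left _ _).mul_right _).mul_right _).mul_left _
    · exact ((dvd_mul_left _ _).mul_right _).mul_left _
    · exact (dvd_mul_left _ _).mul_left _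
  · obtain ⟨p', f, hp', hf, rfl⟩ := hu
    obtain rfl : p = p' := (Nat.prime_dvd_prime_iff_eq hp hp'.nat_prime).1 (hp.dvd_of_dvd_pow hpu)
    have hN := (le_of_cover hF hq H hp hcov).1
    rcases id hq with ⟨h, h9⟩ | ⟨h, h9⟩
    · -- `31` divides `|S|`
      exfalso
      have h31 : 31 ∣ Nat.card S := by
        rw [← one_mul (Nat.card S), heq]
        by_cases hp31 : p = 31
        · rw [hp31] at hpu ⊢
          exact (dvd_pow hpu (by norm_num)).mul_right _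
        · have hcop : ¬ 31 ∣ p ^ f := fun h' =>
            hp31 ((Nat.prime_dvd_prime_iff_eq (by norm_num) hp).1
              (Nat.Prime.dvd_of_dvd_pow (by norm_num) h')).symm
          have := Fact.mk (show Nat.Prime 31 by norm_num)
          have h0 : ((p ^ f : ℕ) : ZMod 31) ≠ 0 := by
            rw [Ne, ZMod.natCast_eq_zero_iff]
            exact hcop
          have h1 := ZMod.pow_card_sub_one_eq_one h0
          have h2 : 31 ∣ (p ^ f) ^ 30 - 1 := by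
            rw [← ZMod.natCast_eq_zero_iff, Nat.cast_sub (Nat.one_le_pow _ _ (Nat.pos_of_ne_zero
              (pow_ne_zero _ hp.ne_zero))), Nat.cast_pow]
            rw [show (30 : ℕ) = 31 - 1 from rfl, h1, Nat.cast_one, sub_self]
          exact h2.trans ((dvd_mul_left _ _).mul_left _)
      obtain ⟨k, hk1, hkN, hk⟩ := exists_pow_of_dvd hF hq H (by norm_num) h31 (by omega)
      subst h
      have hk28 : k ≤ 28 := by omega
      revert hk
      clear hkN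
      interval_cases k <;> decide +kernel
    · subst h
      exact ⟨28, ch5, fs5, w5e8, [], by omega, c5e8, List.not_mem_nil⟩

/-- **`Sz(u)`** -/
theorem elim_sz (hF : Fintype.card F = q) (hq : (q = 3 ∧ 9 ≤ N) ∨ (q = 5 ∧ 11 ≤ N))
    (H : Hyp S (Matrix.ProjectiveSpecialLinearGroup (Fin N) F)) {u : ℕ} (hg : IsNamed (.sz u) S) : False := by
  obtain ⟨E, i1, i2, m, hm, hE, hu, ⟨e⟩⟩ := hg.real
  have hcov : Cover S (2 ^ 1) 3 := H168.TwF4Cover.cover_suzuki ⟨E, i1, i2, m, hm, hE.trans hu, ⟨e⟩⟩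
  have h1 := (le_of_cover hF hq H Nat.prime_two hcov).2 (by norm_num)
  omega

/-- **`²G₂(u)`** -/
theorem elim_ree (hF : Fintype.card F = q) (hq : (q = 3 ∧ 9 ≤ N) ∨ (q = 5 ∧ 11 ≤ N))
    (H : Hyp S (Matrix.ProjectiveSpecialLinearGroup (Fin N) F)) {u : ℕ} (hg : IsNamed (.ree u) S) :
    ∃ f : ℕ, f ≠ 0 ∧ u = q ^ f := by
  obtain ⟨E, i1, i2, m, hm, hE, hu, ⟨e⟩⟩ := hg.real
  rcases id hq with ⟨h, -⟩ | ⟨h, h11⟩
  · exact ⟨2 * m + 1, by omega, by rw [hu, h]⟩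
  · exfalso
    have hcov : Cover S (3 ^ 1) 4 := Cover.congr e (H168.TwF4Cover.ree_cover hm (hE.trans hu))
    have h1 := (le_of_cover hF hq H Nat.prime_three hcov).2 (by norm_num)
    omega

end Cfsg.Agent.H376.LPsl
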