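import Cfsg.Agent.H376.SidePsl
import Cfsg.Agent.H376.CocPsl2
import Mathlib

/-!
# `L = PSL_N(3)`, `N ≥ 9`, or `PSL_N(5)`, `N ≥ 11`: `S = PSL_m(q₀)` has the characteristic of `L`
-/

set_option autoImplicit false

namespace Cfsg.Agent.H376.LPsl

open Finset Cfsg.Agent.H376.Coc Cfsg.Agent.H376.Num

/-- candidates for the characteristic of `S`, `q = 3` -/
theorem cand_three {r : ℕ} (hr : r.Prime) (h3 : r ≠ 3)
    (h : Good 3 r → orderOf ((3 : ℕ) : ZMod r) ≤ 4) : r = 2 ∨ r = 5 ∨ r = 13 := by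
  by_cases h2 : r = 2
  · exact Or.inl h2
  have hnd : ¬ r ∣ 3 := fun hd => h3 ((Nat.prime_dvd_prime_iff_eq hr Nat.prime_three).1 hd)
  have hpos : 0 < orderOf ((3 : ℕ) : ZMod r) := ord_pos hr
    ((Nat.coprime_primes Nat.prime_three hr).2 (Ne.symm h3))
  have hle : orderOf ((3 : ℕ) : ZMod r) ≤ 4 := by
    by_cases hg : 2 ≤ orderOf ((3 : ℕ) : ZMod r)
    · exact h ⟨hr, h2, hnd, hg⟩
    · omega
  have hcases : orderOf ((3 : ℕ) : ZMod r) ∣ 3 ∨ orderOf ((3 : ℕ) : ZMod r) ∣ 4 := by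
    interval_cases orderOf ((3 : ℕ) : ZMod r) <;> decide
  rcases hcases with h4 | h4
  · have h5 := (ord_dvd_iff (q := 3) (by norm_num)).1 h4
    have h6 : r ∣ 2 * 13 := by simpa using h5
    rcases hr.dvd_mul.1 h6 with h7 | h7
    · exact absurd ((Nat.prime_dvd_prime_iff_eq hr Nat.prime_two).1 h7) h2
    · right; right
      exact (Nat.prime_dvd_prime_iff_eq hr (by norm_num)).1 h7
  · have h5 := (ord_dvd_iff (q := 3) (by norm_num)).1 h4
    have h6 : r ∣ 2 ^ 4 * 5 := by simpa using h5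
    rcases hr.dvd_mul.1 h6 with h7 | h7
    · exact absurd ((Nat.prime_dvd_prime_iff_eq hr Nat.prime_two).1 (hr.dvd_of_dvd_pow h7)) h2
    · right; left
      exact (Nat.prime_dvd_prime_iff_eq hr (by norm_num)).1 h7

/-- candidates for the characteristic of `S`, `q = 5` -/
theorem cand_five {r : ℕ} (hr : r.Prime) (h5' : r ≠ 5)
    (h : Good 5 r → orderOf ((5 : ℕ) : ZMod r) ≤ 4) : r = 2 ∨ r = 3 ∨ r = 13 ∨ r = 31 := by
  by_cases h2 : r = 2
  · exact Or.inl h2
  have hnd : ¬ r ∣ 5 := fun hd => h5' ((Nat.prime_dvd_prime_iff_eq hr Nat.prime_five).1 hd)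
  have hpos : 0 < orderOf ((5 : ℕ) : ZMod r) := ord_pos hr
    ((Nat.coprime_primes Nat.prime_five hr).2 (Ne.symm h5'))
  have hle : orderOf ((5 : ℕ) : ZMod r) ≤ 4 := by
    by_cases hg : 2 ≤ orderOf ((5 : ℕ) : ZMod r)
    · exact h ⟨hr, h2, hnd, hg⟩
    · omega
  have hcases : orderOf ((5 : ℕ) : ZMod r) ∣ 3 ∨ orderOf ((5 : ℕ) : ZMod r) ∣ 4 := by
    interval_cases orderOf ((5 : ℕ) : ZMod r) <;> decide
  rcases hcases with h4 | h4
  · have h5 := (ord_dvd_iff (q := 5) (by norm_num)).1 h4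
    have h6 : r ∣ 2 ^ 2 * 31 := by simpa using h5
    rcases hr.dvd_mul.1 h6 with h7 | h7
    · exact absurd ((Nat.prime_dvd_prime_iff_eq hr Nat.prime_two).1 (hr.dvd_of_dvd_pow h7)) h2
    · right; right; right
      exact (Nat.prime_dvd_prime_iff_eq hr (by norm_num)).1 h7
  · have h5 := (ord_dvd_iff (q := 5) (by norm_num)).1 h4
    have h6 : r ∣ (2 ^ 4 * 3) * 13 := by simpa using h5
    rcases hr.dvd_mul.1 h6 with h7 | h7
    · rcases hr.dvd_mul.1 h7 with h8 | h8
      · exact absurd ((Nat.prime_dvd_prime_iff_eq hr Nat.prime_two).1 (hr.dvd_of_dvd_pow h8)) h2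
      · right; left
        exact (Nat.prime_dvd_prime_iff_eq hr (by norm_num)).1 h8
    · right; right; left
      exact (Nat.prime_dvd_prime_iff_eq hr (by norm_num)).1 h7

variable {F : Type*} [Field F] [Fintype F] {q N : ℕ} {E : Type*} [Field E] [Fintype E] {m : ℕ}

/-- a test prime -/
theorem psl_test (hF : Fintype.card F = q) (hq : 3 ≤ q) (hN : 5 ≤ N)
    (H : Hyp (Matrix.ProjectiveSpecialLinearGroup (Fin m) E)
      (Matrix.ProjectiveSpecialLinearGroup (Fin N) F))
    {x a : ℕ} (hx : Good q x) (ha : 2 ≤ a)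
    (hxa : x ∣ Nat.card (Matrix.SpecialLinearGroup (Fin a) E)) :
    m ≤ a ∨ (orderOf ((q : ℕ) : ZMod x) ≤ N ∧
      (m = a + 1 ∨ min (orderOf ((q : ℕ) : ZMod x)) (N - N / 2) ≤ a + 2)) := by
  by_cases hm : m ≤ a
  · exact Or.inl hm
  right
  obtain ⟨h1, D, hD, hxD, hcard⟩ := thr hF hq (by omega) H hx (psl_dvd_of_sl (by omega) hxa)
  refine ⟨h1, ?_⟩
  by_cases hm1 : m = a + 1
  · exact Or.inl hm1
  right
  have := psl_coclique hD hxD (by omega) (by omega) hxa
  omega

theorem sl_of_pow {p f x a : ℕ} (hE : Fintype.card E = p ^ f) (hx : x.Prime)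
    (ha : 2 ≤ a) (h : x ∣ p ^ a - 1) : x ∣ Nat.card (Matrix.SpecialLinearGroup (Fin a) E) := by
  refine sl_dvd ha hx (Or.inr ⟨a, by omega, le_rfl, h.trans ?_⟩)
  rw [hE, ← pow_mul, mul_comm, pow_mul]
  have h1 := Nat.sub_dvd_pow_sub_pow (p ^ a) 1 f
  rwa [one_pow] at h1

/-- bounds for `T = N - N / 2` -/
theorem psl_rank (hF : Fintype.card F = q) (hq : 3 ≤ q) (hN : 8 ≤ N) (hm2 : 2 ≤ m)
    (H : Hyp (Matrix.ProjectiveSpecialLinearGroup (Fin m) E)
      (Matrix.ProjectiveSpecialLinearGroup (Fin N) F)) :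
    (m ≤ 3 → N - N / 2 ≤ 4) ∧ (4 ≤ m → N - N / 2 ≤ 2 + m / 2) := by
  obtain ⟨D, hD, hcard, hgood⟩ := top hF hq (by omega) H
  constructor
  · intro hm
    have h5 : ∀ s ∈ D, 5 ≤ s := by
      intro s hs
      have h1 := hgood s hs
      have h2 := lt_of_good h1.1
      omega
    have := psl_coclique_three hD hm2 hm h5
    omega
  · intro hm
    have := psl_coclique_half hD hm
    omega

/-- **`PSL_m(q₀)` in cross characteristic** -/
theorem elim_psl (hF : Fintype.card F = q) (hq : (q = 3 ∧ 9 ≤ N) ∨ (q = 5 ∧ 11 ≤ N)) (hm : 2 ≤ m)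
    (H : Hyp (Matrix.ProjectiveSpecialLinearGroup (Fin m) E)
      (Matrix.ProjectiveSpecialLinearGroup (Fin N) F)) :
    ∃ f : ℕ, f ≠ 0 ∧ Fintype.card E = q ^ f := by
  classical
  obtain ⟨p, hc⟩ := CharP.exists E
  obtain ⟨f, hp, hf⟩ := FiniteField.card E p
  have := Fact.mk hp
  have hpE : p ∣ Fintype.card E := by rw [hf]; exact dvd_pow_self p f.ne_zero
  have hpSL : p ∣ Nat.card (Matrix.SpecialLinearGroup (Fin 2) E) :=
    sl_dvd le_rfl hp (Or.inl hpE)
  obtain ⟨hr1, hr2⟩ := psl_rank hF (by omega) (by omega) hm H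
  have hm4 : 4 ≤ m := by
    by_contra hlt
    have := hr1 (by omega)
    omega
  have hr3 := hr2 hm4
  -- the characteristic
  have hchar : Good q p → orderOf ((q : ℕ) : ZMod p) ≤ 4 := by
    intro hg
    rcases psl_test hF (by omega) (by omega) H hg le_rfl hpSL with h | ⟨h1, h | h⟩ <;> omega
  by_cases hpq : p = q
  · exact ⟨f, f.ne_zero, by rw [hf, hpq]⟩
  exfalso
  rcases hq with ⟨rfl, hN⟩ | ⟨rfl, hN⟩
  · rcases cand_three hp hpq hchar with rfl | rfl | rfl
    · have h1 := psl_test hF (by omega) (by omega) H g3_31.1 (a := 5) (by norm_num)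
        (sl_of_pow hf (by norm_num) (by norm_num) (by norm_num))
      rw [g3_31.2] at h1
      omega
    · have h1 := psl_test hF (by omega) (by omega) H g3_31.1 (a := 3) (by norm_num)
        (sl_of_pow hf (by norm_num) (by norm_num) (by norm_num))
      rw [g3_31.2] at h1
      omega
    · have h1 := psl_test hF (by omega) (by omega) H g3_17.1 (a := 4) (by norm_num)
        (sl_of_pow hf (by norm_num) (by norm_num) (by norm_num))
      rw [g3_17.2] at h1
      omega
  · rcases cand_five hp hpq hchar with rfl | rfl | rfl | rfl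
    · have h1 := psl_test hF (by omega) (by omega) H g5_127.1 (a := 7) (by norm_num)
        (sl_of_pow hf (by norm_num) (by norm_num) (by norm_num))
      rw [g5_127.2] at h1
      omega
    · have h1 := psl_test hF (by omega) (by omega) H g5_1093.1 (a := 7) (by norm_num)
        (sl_of_pow hf (by norm_num) (by norm_num) (by norm_num))
      rw [g5_1093.2] at h1
      omega
    · have h1 := psl_test hF (by omega) (by omega) H g5_17.1 (a := 4) (by norm_num)
        (sl_of_pow hf (by norm_num) (by norm_num) (by norm_num))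
      rw [g5_17.2] at h1
      omega
    · have h1 := psl_test hF (by omega) (by omega) H g5_37.1 (a := 4) (by norm_num)
        (sl_of_pow hf (by norm_num) (by norm_num) (by norm_num))
      rw [g5_37.2] at h1
      omega

end Cfsg.Agent.H376.LPsl
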