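import Cfsg.Agent.H376.Coc
import Mathlib

/-!
# What the prime graph of `L` says about the simple section `S`

`Hyp S L`: `π(S) ⊆ π(L)`, adjacency in `S` implies adjacency in `L`, and at most one prime of each coclique of `L` with at
least three members is missing in `π(S)`.
-/

set_option autoImplicit false

namespace Cfsg.Agent.H376

open Cfsg.Agent.H376.Coc

/-- prime graph relations between `S` and `L` -/
structure Hyp (S L : Type*) [Group S] [Group L] : Prop where
  dvd : ∀ r : ℕ, r.Prime → r ∣ Nat.card S → r ∣ Nat.card L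
  adj : ∀ r s : ℕ, r.Prime → s.Prime → r ≠ s → (∃ x : S, orderOf x = r * s) →
    ∃ x : L, orderOf x = r * s
  coc : ∀ C : Finset ℕ, IsCoc L C → 3 ≤ C.card → ∀ r ∈ C, ∀ s ∈ C,
    ¬ r ∣ Nat.card S → ¬ s ∣ Nat.card S → r = s

theorem Hyp.congr {S T L : Type*} [Group S] [Group T] [Group L] (h : Hyp S L) (e : S ≃* T) :
    Hyp T L := by
  have hc : Nat.card T = Nat.card S := (Nat.card_congr e.toEquiv).symm
  refine ⟨fun r hr h1 => h.dvd r hr (hc ▸ h1), fun r s hr hs hrs ⟨x, hx⟩ => h.adj r s hr hs hrs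
    ⟨e.symm x, ?_⟩, fun C hC h3 r hr s hs h1 h2 => h.coc C hC h3 r hr s hs (hc ▸ h1) (hc ▸ h2)⟩
  rw [← hx]
  exact orderOf_injective e.symm.toMonoidHom e.symm.injective x

theorem Hyp.congr_right {S L M : Type*} [Group S] [Group L] [Group M] (h : Hyp S L) (e : L ≃* M) :
    Hyp S M := by
  have hc : Nat.card M = Nat.card L := (Nat.card_congr e.toEquiv).symm
  refine ⟨fun r hr h1 => hc ▸ h.dvd r hr h1, fun r s hr hs hrs hx => ?_, fun C hC h3 =>
    h.coc C (hC.congr e.symm) h3⟩
  obtain ⟨x, hx⟩ := h.adj r s hr hs hrs hx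
  exact ⟨e x, by rw [← hx]; exact orderOf_injective e.toMonoidHom e.injective x⟩

/-- the part of a coclique of `L` that survives in `S` -/
theorem Hyp.exists_coc {S L : Type*} [Group S] [Group L] (h : Hyp S L) {C : Finset ℕ}
    (hC : IsCoc L C) (h3 : 3 ≤ C.card) :
    ∃ D ⊆ C, IsCoc S D ∧ C.card ≤ D.card + 1 ∧ ∀ x ∈ C, x ∣ Nat.card S → x ∈ D := by
  classical
  refine ⟨C.filter (fun x => x ∣ Nat.card S), Finset.filter_subset _ _, ⟨?_, ?_, ?_⟩, ?_, ?_⟩
  · exact fun p hp => hC.prime p (Finset.mem_filter.1 hp).1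
  · exact fun p hp => (Finset.mem_filter.1 hp).2
  · intro p hp q hq hne hex
    exact hC.indep p (Finset.mem_filter.1 hp).1 q (Finset.mem_filter.1 hq).1 hne
      (h.adj p q (hC.prime p (Finset.mem_filter.1 hp).1) (hC.prime q (Finset.mem_filter.1 hq).1)
        hne hex)
  · rw [← Finset.card_filter_add_card_filter_not (s := C) (fun x => x ∣ Nat.card S)]
    have h1 : (C.filter (fun x => ¬ x ∣ Nat.card S)).card ≤ 1 := by
      rw [Finset.card_le_one]
      intro a ha b hb
      exact h.coc C hC h3 a (Finset.mem_filter.1 ha).1 b (Finset.mem_filter.1 hb).1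
        (Finset.mem_filter.1 ha).2 (Finset.mem_filter.1 hb).2
    omega
  · exact fun x hx hd => Finset.mem_filter.2 ⟨hx, hd⟩

end Cfsg.Agent.H376
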