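import Cfsg.Agent.H376.LPsl
import Mathlib

/-!
# The prime 2 in the prime graph of `PSL_N(q)`

`not_two_top` : `ord_r(q) = N`, `z ^ N ≠ 1` for non-squares `z` : no element of order `2 r`;
`not_two_sub` : `ord_r(q) = N - 1`, `N` even, `a ^ N ≠ -1` for all `a` : no element of order `2 r`.
-/

set_option autoImplicit false

namespace Cfsg.Agent.H376.LPsl

open Module Cfsg.Agent.H376.PrimeOrd

section Lin

variable {F V : Type*} [Field F] [Finite F] [AddCommGroup V] [Module F V] [FiniteDimensional F V]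

/-- invariant subspaces are fixed pointwise or large -/
theorem inv_subspace {B : Module.End F V} {r : ℕ} (hr : r.Prime) (hrF : (r : F) ≠ 0) (hB : B ^ r = 1)
    (U : Submodule F V) (hU : ∀ u ∈ U, B u ∈ U) (h0 : U ⊓ LinearMap.range (B - 1) ≠ ⊥) :
    orderOf ((Nat.card F : ℕ) : ZMod r) ≤ finrank F (U ⊓ LinearMap.range (B - 1) : Submodule F V) := by
  have h1 := ord_dvd hr hB hrF (U ⊓ LinearMap.range (B - 1)) (fun u hu =>
    ⟨hU u hu.1, range_mem (A := B) (B := B) rfl u hu.2⟩) inf_le_right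
  have h2 : 0 < finrank F (U ⊓ LinearMap.range (B - 1) : Submodule F V) :=
    Module.finrank_pos_iff.2 (Submodule.nontrivial_iff_ne_bot.2 h0)
  exact Nat.le_of_dvd h2 h1

theorem scalar_of_top {A B : Module.End F V} {r : ℕ} (hr : r.Prime) (hrF : (r : F) ≠ 0)
    (hB : B ^ r = 1) (hB1 : B ≠ 1) (hAB : A * B = B * A) {c : F} (hA : A * A = (c * c) • 1)
    (hK : orderOf ((Nat.card F : ℕ) : ZMod r) = finrank F V) : ∃ a : F, A = a • 1 := by
  have hrange : LinearMap.range (B - 1) = ⊤ := by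
    have h1 := inv_subspace hr hrF hB ⊤ (fun _ _ => Submodule.mem_top)
      (by rw [top_inf_eq]; exact range_ne_bot hB1)
    rw [top_inf_eq, hK] at h1
    exact Submodule.eq_top_of_finrank_eq (le_antisymm (Submodule.finrank_le _) h1)
  have hcomm : ∀ v, A (B v) = B (A v) := fun v => congrArg (fun f : Module.End F V => f v) hAB
  have hAA : ∀ v, A (A v) = (c * c) • v := fun v => congrArg (fun f : Module.End F V => f v) hA
  by_cases h0 : LinearMap.ker (A - c • 1) = ⊥
  · refine ⟨-c, LinearMap.ext fun v => ?_⟩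
    have h1 : A v + c • v ∈ LinearMap.ker (A - c • 1) := by
      rw [LinearMap.mem_ker, LinearMap.sub_apply, map_add, map_smul, hAA, LinearMap.smul_apply,
        Module.End.one_apply, smul_add, smul_smul]
      abel
    rw [h0, Submodule.mem_bot] at h1
    rw [LinearMap.smul_apply, Module.End.one_apply, neg_smul]
    exact eq_neg_of_add_eq_zero_left h1
  · have h1 := inv_subspace hr hrF hB (LinearMap.ker (A - c • 1)) (fun u hu => by
      rw [LinearMap.mem_ker, LinearMap.sub_apply, LinearMap.smul_apply, Module.End.one_apply,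
        sub_eq_zero] at hu ⊢
      rw [hcomm, hu, map_smul]) (by rw [hrange, inf_top_eq]; exact h0)
    rw [hrange, inf_top_eq, hK] at h1
    have h2 : LinearMap.ker (A - c • 1) = ⊤ :=
      Submodule.eq_top_of_finrank_eq (le_antisymm (Submodule.finrank_le _) h1)
    exact ⟨c, sub_eq_zero.1 (LinearMap.ker_eq_top.1 h2)⟩

/-- one fixed dimension -/
theorem det_of_sub {A B : Module.End F V} {r : ℕ} (hr : r.Prime) (hrF : (r : F) ≠ 0)
    (hB : B ^ r = 1) (hB1 : B ≠ 1) (hAB : A * B = B * A) {z : F} (hA : A * A = z • 1)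
    (hn : 3 ≤ finrank F V)
    (hK : orderOf ((Nat.card F : ℕ) : ZMod r) + 1 = finrank F V) :
    (∃ a : F, A = a • 1) ∨ ∃ a : F, LinearMap.det A = a * (-a) ^ (finrank F V - 1) := by
  have hcomm : ∀ v, A (B v) = B (A v) := fun v => congrArg (fun f : Module.End F V => f v) hAB
  have hAA : ∀ v, A (A v) = z • v := fun v => congrArg (fun f : Module.End F V => f v) hA
  set W := LinearMap.range (B - 1) with hW
  set U := LinearMap.ker (B - 1) with hU
  have hsum := LinearMap.finrank_range_add_finrank_ker (B - 1)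
  rw [← hW, ← hU] at hsum
  have hdis : U ⊓ W = ⊥ := ker_inf_range hB hrF
  have hWd : orderOf ((Nat.card F : ℕ) : ZMod r) ∣ finrank F W :=
    ord_dvd hr hB hrF W (range_mem (A := B) (B := B) rfl) le_rfl
  have hWpos : 0 < finrank F W :=
    Module.finrank_pos_iff.2 (Submodule.nontrivial_iff_ne_bot.2 (range_ne_bot hB1))
  have hWn : finrank F W + 1 = finrank F V := by
    obtain ⟨c, hc⟩ := hWd
    rcases c with _ | _ | c
    · omega
    · omega
    · have : orderOf ((Nat.card F : ℕ) : ZMod r) * 2 ≤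
        orderOf ((Nat.card F : ℕ) : ZMod r) * (c + 1 + 1) := Nat.mul_le_mul_left _ (by omega)
      omega
  have hU1 : finrank F U = 1 := by omega
  obtain ⟨u, hu0, hu⟩ := finrank_eq_one_iff'.1 hU1
  have hcompl : IsCompl U W := by
    refine ⟨disjoint_iff.2 hdis, ?_⟩
    rw [codisjoint_iff]
    apply Submodule.eq_top_of_finrank_eq
    have h1 := Submodule.finrank_sup_add_finrank_inf_eq U W
    rw [hdis, finrank_bot] at h1
    omega
  -- `A` preserves both
  have hAU : ∀ v ∈ U, A v ∈ U := by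
    intro v hv
    rw [hU, LinearMap.mem_ker, LinearMap.sub_apply, Module.End.one_apply, sub_eq_zero] at hv ⊢
    rw [← hcomm, hv]
  have hAW : ∀ v ∈ W, A v ∈ W := range_mem (A := B) (B := A) hAB.symm
  obtain ⟨a, ha⟩ := hu ⟨A u, hAU u u.2⟩
  have ha' : A (u : V) = a • (u : V) := (congrArg Subtype.val ha).symm
  have hU' : ∀ v ∈ U, A v = a • v := by
    intro v hv
    obtain ⟨c, hc⟩ := hu ⟨v, hv⟩
    have hc' : v = c • (u : V) := (congrArg Subtype.val hc).symm
    rw [hc', map_smul, ha', smul_comm]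
  have hza : z = a * a := by
    have h1 := hAA (u : V)
    rw [ha', map_smul, ha', smul_smul] at h1
    have h2 : (u : V) ≠ 0 := fun h => hu0 (Subtype.ext h)
    exact (smul_left_injective F h2 h1).symm
  by_cases h0 : LinearMap.ker (A - a • 1) ⊓ W = ⊥
  · right
    refine ⟨a, ?_⟩
    have hW' : ∀ v ∈ W, A v = (-a) • v := by
      intro v hv
      have h1 : A v + a • v ∈ LinearMap.ker (A - a • 1) ⊓ W := by
        refine Submodule.mem_inf.2 ⟨?_, W.add_mem (hAW v hv) (W.smul_mem a hv)⟩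
        rw [LinearMap.mem_ker, LinearMap.sub_apply, map_add, map_smul, hAA, LinearMap.smul_apply,
          Module.End.one_apply, smul_add, smul_smul, hza]
        abel
      rw [h0, Submodule.mem_bot] at h1
      rw [neg_smul]
      exact eq_neg_of_add_eq_zero_left h1
    set e := Submodule.prodEquivOfIsCompl U W hcompl with he
    have hAe : A = (e : (U × W) →ₗ[F] V) ∘ₗ (LinearMap.prodMap (a • (1 : Module.End F U))
        ((-a) • (1 : Module.End F W))) ∘ₗ (e.symm : V →ₗ[F] (U × W)) := by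
      apply LinearMap.ext
      intro v
      obtain ⟨x, rfl⟩ := e.surjective v
      rw [LinearMap.comp_apply, LinearMap.comp_apply, LinearEquiv.coe_coe, LinearEquiv.coe_coe,
        LinearEquiv.symm_apply_apply, he, Submodule.coe_prodEquivOfIsCompl',
        Submodule.coe_prodEquivOfIsCompl', map_add, hU' _ x.1.2, hW' _ x.2.2]
      rfl
    rw [hAe, LinearMap.det_conj, LinearMap.det_prodMap, LinearMap.det_smul, LinearMap.det_smul,
      hU1, pow_one]
    have h1 : LinearMap.det (1 : Module.End F U) = 1 := LinearMap.det_id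
    have h2 : LinearMap.det (1 : Module.End F W) = 1 := LinearMap.det_id
    rw [h1, h2, mul_one, mul_one]
    congr 2
    omega
  · left
    have h1 := inv_subspace hr hrF hB (LinearMap.ker (A - a • 1)) (fun u hu => by
      rw [LinearMap.mem_ker, LinearMap.sub_apply, LinearMap.smul_apply, Module.End.one_apply,
        sub_eq_zero] at hu ⊢
      rw [hcomm, hu, map_smul]) h0
    have h2 : LinearMap.ker (A - a • 1) ⊓ W = W := by
      apply Submodule.eq_of_le_of_finrank_le inf_le_right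
      rw [← hW] at h1
      omega
    refine ⟨a, LinearMap.ext fun v => ?_⟩
    obtain ⟨x, rfl⟩ := (Submodule.prodEquivOfIsCompl U W hcompl).surjective v
    rw [Submodule.coe_prodEquivOfIsCompl', map_add, hU' _ x.1.2, LinearMap.smul_apply,
      Module.End.one_apply, smul_add]
    congr 1
    have h3 : (x.2 : V) ∈ LinearMap.ker (A - a • 1) := by
      have h4 : (x.2 : V) ∈ LinearMap.ker (A - a • 1) ⊓ W := by rw [h2]; exact x.2.2
      exact h4.1
    rw [LinearMap.mem_ker, LinearMap.sub_apply, LinearMap.smul_apply, Module.End.one_apply,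
      sub_eq_zero] at h3
    exact h3

end Lin

section Grp

variable {F : Type*} [Field F] [Fintype F]

/-- lifting an element of order `2 r` -/
theorem exists_pair {N r : ℕ} (hr : r.Prime) (_ : r ≠ 2)
    (h2k : 2 ≤ orderOf ((Fintype.card F : ℕ) : ZMod r))
    (h : ∃ g : Matrix.ProjectiveSpecialLinearGroup (Fin N) F, orderOf g = 2 * r) :
    ∃ (A B : Module.End F (Fin N → F)) (z : F), B ^ r = 1 ∧ B ≠ 1 ∧ A * B = B * A ∧
      A * A = z • 1 ∧ (¬ ∃ a : F, A = a • 1) ∧ LinearMap.det A = 1 := by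
  obtain ⟨g, hg⟩ := h
  set Z := Subgroup.center (Matrix.SpecialLinearGroup (Fin N) F) with hZ
  have hcop := S2468.cop (F := F) hr h2k
  have ha : orderOf (g ^ r) = 2 := by
    rw [orderOf_pow' g hr.ne_zero, hg, Nat.gcd_mul_left_left]
    exact Nat.mul_div_cancel _ hr.pos
  have hb : orderOf (g ^ 2) = r := by
    rw [orderOf_pow' g (by norm_num), hg, Nat.gcd_mul_right_left]
    exact Nat.mul_div_cancel_left _ (by norm_num)
  -- use a lift of `g` itself to get commuting lifts
  obtain ⟨x, hx⟩ := QuotientGroup.mk_surjective g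
  -- `y' = (x ^ 2) ^ (q - 1)`
  set m := Nat.card F - 1 with hm
  set B₀ : Matrix.SpecialLinearGroup (Fin N) F := (x ^ 2) ^ m with hB₀
  set A₀ : Matrix.SpecialLinearGroup (Fin N) F := x ^ r with hA₀
  have hB₀r : B₀ ^ r = 1 := by
    have h1 : (x ^ 2) ^ r ∈ Z := by
      rw [← QuotientGroup.eq_one_iff, QuotientGroup.mk_pow, QuotientGroup.mk_pow, hx, ← hb,
        pow_orderOf_eq_one]
    rw [hB₀, ← pow_mul, mul_comm, pow_mul]
    exact S2468.center_pow _ h1
  have hB₀1 : B₀ ≠ 1 := by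
    intro h
    have h1 : (g ^ 2) ^ m = 1 := by
      rw [← hx, ← QuotientGroup.mk_pow, ← QuotientGroup.mk_pow]
      exact (congrArg QuotientGroup.mk h).trans (QuotientGroup.mk_one _)
    have h2 := orderOf_dvd_of_pow_eq_one h1
    rw [hb] at h2
    have h3 := Nat.Coprime.eq_one_of_dvd hcop.symm h2
    exact hr.one_lt.ne' h3
  have hcomm : A₀ * B₀ = B₀ * A₀ := by
    rw [hA₀, hB₀, ← pow_mul]
    exact (Commute.refl x).pow_pow _ _
  have hA₀Z : A₀ * A₀ ∈ Z := by
    rw [← pow_two, ← QuotientGroup.eq_one_iff, hA₀, QuotientGroup.mk_pow, QuotientGroup.mk_pow, hx,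
      ← ha, pow_orderOf_eq_one]
  have hA₀n : A₀ ∉ Z := by
    rw [← QuotientGroup.eq_one_iff, hA₀, QuotientGroup.mk_pow, hx]
    intro h
    rw [h, orderOf_one] at ha
    omega
  obtain ⟨z, hz⟩ := Coc.center_scalar hA₀Z
  refine ⟨S2468.phi F N A₀, S2468.phi F N B₀, z, ?_, ?_, ?_, ?_, ?_, ?_⟩
  · rw [← map_pow, hB₀r, map_one]
  · intro h
    exact hB₀1 (S2468.phi_injective F N (h.trans (map_one _).symm))
  · rw [← map_mul, hcomm, map_mul]
  · rw [← map_mul]
    change Matrix.toLinAlgEquiv' (A₀ * A₀).1 = _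
    rw [hz, map_smul, map_one]
  · rintro ⟨a, ha⟩
    apply hA₀n
    have h1 : Matrix.toLinAlgEquiv' A₀.1 = a • (1 : Module.End F (Fin N → F)) := ha
    have h2 : A₀.1 = a • 1 := by
      apply (Matrix.toLinAlgEquiv' (R := F) (n := Fin N)).injective
      rw [h1, map_smul, map_one]
    rw [hZ, Subgroup.mem_center_iff]
    intro C
    apply Subtype.ext
    change C.1 * A₀.1 = A₀.1 * C.1
    rw [h2, Matrix.mul_smul, Matrix.smul_mul, mul_one, one_mul]
  · change LinearMap.det (Matrix.toLin' A₀.1) = 1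
    rw [LinearMap.det_toLin']
    exact A₀.2

/-- **2 and the top prime** -/
theorem not_two_top {N r : ℕ} (hr : r.Prime) (hr2 : r ≠ 2) (hrF : (r : F) ≠ 0) (hN : 2 ≤ N)
    (hK : orderOf ((Fintype.card F : ℕ) : ZMod r) = N)
    (hz : ∀ z : F, ¬ IsSquare z → z ^ N ≠ 1) :
    ¬ ∃ g : Matrix.ProjectiveSpecialLinearGroup (Fin N) F, orderOf g = 2 * r := by
  intro h
  obtain ⟨A, B, z, hB, hB1, hAB, hA, hns, hdet⟩ := exists_pair hr hr2 (by omega) h
  have hfin : finrank F (Fin N → F) = N := by simp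
  by_cases hsq : IsSquare z
  · obtain ⟨c, rfl⟩ := hsq
    refine hns (scalar_of_top hr hrF hB hB1 hAB hA ?_)
    rw [hfin, Nat.card_eq_fintype_card, hK]
  · apply hz z hsq
    have h1 : LinearMap.det (A * A) = 1 := by rw [map_mul, hdet, one_mul]
    rw [hA, LinearMap.det_smul, hfin] at h1
    have h2 : LinearMap.det (1 : Module.End F (Fin N → F)) = 1 := LinearMap.det_id
    rw [h2, mul_one] at h1
    exact h1

/-- **2 and the second prime** -/
theorem not_two_sub {N r : ℕ} (hr : r.Prime) (hr2 : r ≠ 2) (hrF : (r : F) ≠ 0) (hN : 3 ≤ N)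
    (hK : orderOf ((Fintype.card F : ℕ) : ZMod r) + 1 = N)
    (hz : ∀ a : F, a * (-a) ^ (N - 1) ≠ 1) :
    ¬ ∃ g : Matrix.ProjectiveSpecialLinearGroup (Fin N) F, orderOf g = 2 * r := by
  intro h
  obtain ⟨A, B, z, hB, hB1, hAB, hA, hns, hdet⟩ := exists_pair hr hr2 (by omega) h
  have hfin : finrank F (Fin N → F) = N := by simp
  rcases det_of_sub hr hrF hB hB1 hAB hA (by rw [hfin]; exact hN)
    (by rw [hfin, Nat.card_eq_fintype_card, hK]) with h1 | ⟨a, ha⟩
  · exact hns h1
  · rw [hdet, hfin] at ha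
    exact hz a ha.symm

/-! ### `q = 3` and `q = 5` -/

theorem card_cast_zero : ((Fintype.card F : ℕ) : F) = 0 := by
  simp

theorem cast_ne_zero_of_good {r : ℕ} (hr : Good (Fintype.card F) r) : (r : F) ≠ 0 := by
  obtain ⟨p, hc⟩ := CharP.exists F
  have hp : Fact p.Prime := ⟨CharP.char_is_prime F p⟩
  have hpF : p ∣ Fintype.card F := by
    obtain ⟨m, _, hm⟩ := FiniteField.card F p
    rw [hm]
    exact dvd_pow_self p m.ne_zero
  exact S2468.char_ne hr.prime (fun h => hr.cop (h ▸ hpF))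

theorem two_three (hF : Fintype.card F = 3) {N r : ℕ} (hN : 3 ≤ N) (hr : Good 3 r)
    (h : (Odd N ∧ orderOf ((3 : ℕ) : ZMod r) = N) ∨ (Even N ∧ orderOf ((3 : ℕ) : ZMod r) + 1 = N)) :
    ¬ ∃ g : Matrix.ProjectiveSpecialLinearGroup (Fin N) F, orderOf g = 2 * r := by
  have hrF : (r : F) ≠ 0 := cast_ne_zero_of_good (by rw [hF]; exact hr)
  have h3 : (3 : F) = 0 := by
    have := card_cast_zero (F := F)
    rw [hF] at this
    exact_mod_cast this
  have hsq : ∀ a : F, a ≠ 0 → a ^ 2 = 1 := by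
    intro a ha
    have := FiniteField.pow_card_sub_one_eq_one a ha
    rwa [hF] at this
  rcases h with ⟨hodd, hK⟩ | ⟨hev, hK⟩
  · apply not_two_top hr.prime hr.odd hrF (by omega) (by rw [hF]; exact hK)
    intro z hz h1
    have hz0 : z ≠ 0 := by rintro rfl; exact hz ⟨0, by simp⟩
    obtain ⟨k, rfl⟩ := hodd
    rw [pow_succ, pow_mul, hsq z hz0, one_pow, one_mul] at h1
    exact hz ⟨1, by rw [h1, mul_one]⟩
  · apply not_two_sub hr.prime hr.odd hrF (by omega) (by rw [hF]; exact hK)
    intro a h1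
    have ha0 : a ≠ 0 := by rintro rfl; rw [zero_mul] at h1; exact zero_ne_one h1
    obtain ⟨k, rfl⟩ := hev
    obtain ⟨k, rfl⟩ : ∃ j, k = j + 1 := ⟨k - 1, by omega⟩
    rw [show k + 1 + (k + 1) - 1 = 2 * k + 1 by omega, pow_succ, pow_mul, hsq (-a) (neg_ne_zero.2 ha0),
      one_pow, one_mul] at h1
    have h2 : a ^ 2 = 1 := hsq a ha0
    have h4 : (1 : F) = 0 := by linear_combination h1 + h2 + h3
    exact one_ne_zero h4

theorem two_five (hF : Fintype.card F = 5) {N r : ℕ} (hN : 3 ≤ N) (hr : Good 5 r)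
    (h : (¬ 4 ∣ N ∧ orderOf ((5 : ℕ) : ZMod r) = N) ∨ (4 ∣ N ∧ orderOf ((5 : ℕ) : ZMod r) + 1 = N)) :
    ¬ ∃ g : Matrix.ProjectiveSpecialLinearGroup (Fin N) F, orderOf g = 2 * r := by
  have hrF : (r : F) ≠ 0 := cast_ne_zero_of_good (by rw [hF]; exact hr)
  have h5 : (5 : F) = 0 := by
    have := card_cast_zero (F := F)
    rw [hF] at this
    exact_mod_cast this
  have hsq : ∀ a : F, a ≠ 0 → a ^ 4 = 1 := by
    intro a ha
    have := FiniteField.pow_card_sub_one_eq_one a ha
    rwa [hF] at this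
  have hm1 : (-1 : F) = 2 * 2 := by linear_combination - h5
  rcases h with ⟨hodd, hK⟩ | ⟨hev, hK⟩
  · apply not_two_top hr.prime hr.odd hrF (by omega) (by rw [hF]; exact hK)
    intro z hz h1
    have hz0 : z ≠ 0 := by rintro rfl; exact hz ⟨0, by simp⟩
    have hz1 : z ≠ 1 := by rintro rfl; exact hz ⟨1, by simp⟩
    have hz2 : z ^ 2 ≠ 1 := by
      intro h2
      have h3 : (z - 1) * (z + 1) = 0 := by linear_combination h2
      rcases mul_eq_zero.1 h3 with h4 | h4
      · exact hz1 (sub_eq_zero.1 h4)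
      · exact hz ⟨2, by rw [← hm1]; exact eq_neg_of_add_eq_zero_left h4⟩
    have h4 := hsq z hz0
    have hmod := Nat.div_add_mod N 4
    have hlt := Nat.mod_lt N (show 0 < 4 by norm_num)
    rw [← hmod, pow_add, pow_mul, h4, one_pow, one_mul] at h1
    have hne : N % 4 ≠ 0 := fun h => hodd (Nat.dvd_of_mod_eq_zero h)
    have hcases : N % 4 = 1 ∨ N % 4 = 2 ∨ N % 4 = 3 := by omega
    rcases hcases with h6 | h6 | h6 <;> rw [h6] at h1
    · exact hz1 (by simpa using h1)
    · exact hz2 h1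
    · apply hz1
      have : z ^ 4 = z ^ 3 * z := by ring
      rw [this, h1, one_mul] at h4
      exact h4
  · apply not_two_sub hr.prime hr.odd hrF (by omega) (by rw [hF]; exact hK)
    intro a h1
    have ha0 : a ≠ 0 := by rintro rfl; rw [zero_mul] at h1; exact zero_ne_one h1
    obtain ⟨k, rfl⟩ := hev
    obtain ⟨k, rfl⟩ : ∃ j, k = j + 1 := ⟨k - 1, by omega⟩
    rw [show 4 * (k + 1) - 1 = 4 * k + 3 by omega, pow_add, pow_mul, hsq (-a) (neg_ne_zero.2 ha0),
      one_pow, one_mul] at h1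
    have h2 : a ^ 4 = 1 := hsq a ha0
    have h4 : (2 : F) = 0 := by linear_combination - h1 - h2
    have h6 : (1 : F) = 0 := by linear_combination h5 - 2 * h4
    exact one_ne_zero h6

end Grp

end Cfsg.Agent.H376.LPsl
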