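import Cfsg.Agent.H376.LPsl
import Mathlib

/-!
# Numbers: orders of 3 and 5 modulo small primes
-/

set_option autoImplicit false

namespace Cfsg.Agent.H376.Num

open Cfsg.Agent.H376.LPsl Cfsg.Agent.H376.Coc

theorem ord_eq {q x k : ℕ} (hk : 0 < k) (h1 : q ^ k % x = 1 % x)
    (h2 : ∀ l : ℕ, l.Prime → l ∣ k → q ^ (k / l) % x ≠ 1 % x) :
    orderOf ((q : ℕ) : ZMod x) = k := by
  apply orderOf_eq_of_pow_and_pow_div_prime hk
  · have h3 : ((q ^ k : ℕ) : ZMod x) = ((1 : ℕ) : ZMod x) := (ZMod.natCast_eq_natCast_iff _ _ _).2 h1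
    push_cast at h3
    exact h3
  · intro l hl hlk h
    apply h2 l hl hlk
    have h3 : ((q ^ (k / l) : ℕ) : ZMod x) = ((1 : ℕ) : ZMod x) := by push_cast; exact h
    exact (ZMod.natCast_eq_natCast_iff _ _ _).1 h3

/-- table form -/
theorem good_of {q x k : ℕ} (L : List ℕ) (hx : x.Prime) (hx2 : x ≠ 2) (_ : 1 ≤ q) (hqx : q % x ≠ 0)
    (hk : 2 ≤ k) (h1 : q ^ k % x = 1 % x) (hL : ∀ l : ℕ, l.Prime → l ∣ k → l ∈ L)
    (h2 : ∀ l ∈ L, q ^ (k / l) % x ≠ 1 % x) :
    Good q x ∧ orderOf ((q : ℕ) : ZMod x) = k := by
  have h3 := ord_eq (q := q) (x := x) (k := k) (by omega) h1 (fun l hl hlk => h2 l (hL l hl hlk))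
  exact ⟨⟨hx, hx2, fun h => hqx (Nat.mod_eq_zero_of_dvd h), by omega⟩, h3⟩

theorem mem_of_factors {k : ℕ} (L : List ℕ) (hk : k ∣ (L.prod) ^ 10) (hL : ∀ l ∈ L, l.Prime) :
    ∀ l : ℕ, l.Prime → l ∣ k → l ∈ L := by
  intro l hl hlk
  have h1 : l ∣ L.prod := hl.dvd_of_dvd_pow (hlk.trans hk)
  obtain ⟨a, ha, hla⟩ := (Prime.dvd_prod_iff hl.prime).1 h1
  rwa [(Nat.prime_dvd_prime_iff_eq hl (hL a ha)).1 hla]

theorem g3_5 : Good 3 5 ∧ orderOf ((3 : ℕ) : ZMod 5) = 4 :=
  good_of [2] (by norm_num) (by norm_num) (by norm_num) (by norm_num) (by norm_num) (by decide +kernel)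
    (mem_of_factors _ (by decide +kernel) (by norm_num)) (by decide +kernel)

theorem g3_7 : Good 3 7 ∧ orderOf ((3 : ℕ) : ZMod 7) = 6 :=
  good_of [2, 3] (by norm_num) (by norm_num) (by norm_num) (by norm_num) (by norm_num) (by decide +kernel)
    (mem_of_factors _ (by decide +kernel) (by norm_num)) (by decide +kernel)

theorem g3_11 : Good 3 11 ∧ orderOf ((3 : ℕ) : ZMod 11) = 5 :=
  good_of [5] (by norm_num) (by norm_num) (by norm_num) (by norm_num) (by norm_num) (by decide +kernel)
    (mem_of_factors _ (by decide +kernel) (by norm_num)) (by decide +kernel)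

theorem g3_13 : Good 3 13 ∧ orderOf ((3 : ℕ) : ZMod 13) = 3 :=
  good_of [3] (by norm_num) (by norm_num) (by norm_num) (by norm_num) (by norm_num) (by decide +kernel)
    (mem_of_factors _ (by decide +kernel) (by norm_num)) (by decide +kernel)

theorem g3_17 : Good 3 17 ∧ orderOf ((3 : ℕ) : ZMod 17) = 16 :=
  good_of [2] (by norm_num) (by norm_num) (by norm_num) (by norm_num) (by norm_num) (by decide +kernel)
    (mem_of_factors _ (by decide +kernel) (by norm_num)) (by decide +kernel)

theorem g3_19 : Good 3 19 ∧ orderOf ((3 : ℕ) : ZMod 19) = 18 :=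
  good_of [2, 3] (by norm_num) (by norm_num) (by norm_num) (by norm_num) (by norm_num) (by decide +kernel)
    (mem_of_factors _ (by decide +kernel) (by norm_num)) (by decide +kernel)

theorem g3_23 : Good 3 23 ∧ orderOf ((3 : ℕ) : ZMod 23) = 11 :=
  good_of [11] (by norm_num) (by norm_num) (by norm_num) (by norm_num) (by norm_num) (by decide +kernel)
    (mem_of_factors _ (by decide +kernel) (by norm_num)) (by decide +kernel)

theorem g3_29 : Good 3 29 ∧ orderOf ((3 : ℕ) : ZMod 29) = 28 :=
  good_of [2, 7] (by norm_num) (by norm_num) (by norm_num) (by norm_num) (by norm_num) (by decide +kernel)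
    (mem_of_factors _ (by decide +kernel) (by norm_num)) (by decide +kernel)

theorem g3_31 : Good 3 31 ∧ orderOf ((3 : ℕ) : ZMod 31) = 30 :=
  good_of [2, 3, 5] (by norm_num) (by norm_num) (by norm_num) (by norm_num) (by norm_num) (by decide +kernel)
    (mem_of_factors _ (by decide +kernel) (by norm_num)) (by decide +kernel)

theorem g3_37 : Good 3 37 ∧ orderOf ((3 : ℕ) : ZMod 37) = 18 :=
  good_of [2, 3] (by norm_num) (by norm_num) (by norm_num) (by norm_num) (by norm_num) (by decide +kernel)
    (mem_of_factors _ (by decide +kernel) (by norm_num)) (by decide +kernel)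

theorem g3_41 : Good 3 41 ∧ orderOf ((3 : ℕ) : ZMod 41) = 8 :=
  good_of [2] (by norm_num) (by norm_num) (by norm_num) (by norm_num) (by norm_num) (by decide +kernel)
    (mem_of_factors _ (by decide +kernel) (by norm_num)) (by decide +kernel)

theorem g3_43 : Good 3 43 ∧ orderOf ((3 : ℕ) : ZMod 43) = 42 :=
  good_of [2, 3, 7] (by norm_num) (by norm_num) (by norm_num) (by norm_num) (by norm_num) (by decide +kernel)
    (mem_of_factors _ (by decide +kernel) (by norm_num)) (by decide +kernel)

theorem g3_61 : Good 3 61 ∧ orderOf ((3 : ℕ) : ZMod 61) = 10 :=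
  good_of [2, 5] (by norm_num) (by norm_num) (by norm_num) (by norm_num) (by norm_num) (by decide +kernel)
    (mem_of_factors _ (by decide +kernel) (by norm_num)) (by decide +kernel)

theorem g3_67 : Good 3 67 ∧ orderOf ((3 : ℕ) : ZMod 67) = 22 :=
  good_of [2, 11] (by norm_num) (by norm_num) (by norm_num) (by norm_num) (by norm_num) (by decide +kernel)
    (mem_of_factors _ (by decide +kernel) (by norm_num)) (by decide +kernel)

theorem g3_71 : Good 3 71 ∧ orderOf ((3 : ℕ) : ZMod 71) = 35 :=
  good_of [5, 7] (by norm_num) (by norm_num) (by norm_num) (by norm_num) (by norm_num) (by decide +kernel)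
    (mem_of_factors _ (by decide +kernel) (by norm_num)) (by decide +kernel)

theorem g3_73 : Good 3 73 ∧ orderOf ((3 : ℕ) : ZMod 73) = 12 :=
  good_of [2, 3] (by norm_num) (by norm_num) (by norm_num) (by norm_num) (by norm_num) (by decide +kernel)
    (mem_of_factors _ (by decide +kernel) (by norm_num)) (by decide +kernel)

theorem g3_79 : Good 3 79 ∧ orderOf ((3 : ℕ) : ZMod 79) = 78 :=
  good_of [2, 3, 13] (by norm_num) (by norm_num) (by norm_num) (by norm_num) (by norm_num) (by decide +kernel)
    (mem_of_factors _ (by decide +kernel) (by norm_num)) (by decide +kernel)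

theorem g3_83 : Good 3 83 ∧ orderOf ((3 : ℕ) : ZMod 83) = 41 :=
  good_of [41] (by norm_num) (by norm_num) (by norm_num) (by norm_num) (by norm_num) (by decide +kernel)
    (mem_of_factors _ (by decide +kernel) (by norm_num)) (by decide +kernel)

theorem g3_89 : Good 3 89 ∧ orderOf ((3 : ℕ) : ZMod 89) = 88 :=
  good_of [2, 11] (by norm_num) (by norm_num) (by norm_num) (by norm_num) (by norm_num) (by decide +kernel)
    (mem_of_factors _ (by decide +kernel) (by norm_num)) (by decide +kernel)

theorem g3_103 : Good 3 103 ∧ orderOf ((3 : ℕ) : ZMod 103) = 34 :=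
  good_of [2, 17] (by norm_num) (by norm_num) (by norm_num) (by norm_num) (by norm_num) (by decide +kernel)
    (mem_of_factors _ (by decide +kernel) (by norm_num)) (by decide +kernel)

theorem g3_127 : Good 3 127 ∧ orderOf ((3 : ℕ) : ZMod 127) = 126 :=
  good_of [2, 3, 7] (by norm_num) (by norm_num) (by norm_num) (by norm_num) (by norm_num) (by decide +kernel)
    (mem_of_factors _ (by decide +kernel) (by norm_num)) (by decide +kernel)

theorem g3_157 : Good 3 157 ∧ orderOf ((3 : ℕ) : ZMod 157) = 78 :=
  good_of [2, 3, 13] (by norm_num) (by norm_num) (by norm_num) (by norm_num) (by norm_num) (by decide +kernel)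
    (mem_of_factors _ (by decide +kernel) (by norm_num)) (by decide +kernel)

theorem g3_193 : Good 3 193 ∧ orderOf ((3 : ℕ) : ZMod 193) = 16 :=
  good_of [2] (by norm_num) (by norm_num) (by norm_num) (by norm_num) (by norm_num) (by decide +kernel)
    (mem_of_factors _ (by decide +kernel) (by norm_num)) (by decide +kernel)

theorem g3_241 : Good 3 241 ∧ orderOf ((3 : ℕ) : ZMod 241) = 120 :=
  good_of [2, 3, 5] (by norm_num) (by norm_num) (by norm_num) (by norm_num) (by norm_num) (by decide +kernel)
    (mem_of_factors _ (by decide +kernel) (by norm_num)) (by decide +kernel)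

theorem g3_257 : Good 3 257 ∧ orderOf ((3 : ℕ) : ZMod 257) = 256 :=
  good_of [2] (by norm_num) (by norm_num) (by norm_num) (by norm_num) (by norm_num) (by decide +kernel)
    (mem_of_factors _ (by decide +kernel) (by norm_num)) (by decide +kernel)

theorem g3_271 : Good 3 271 ∧ orderOf ((3 : ℕ) : ZMod 271) = 30 :=
  good_of [2, 3, 5] (by norm_num) (by norm_num) (by norm_num) (by norm_num) (by norm_num) (by decide +kernel)
    (mem_of_factors _ (by decide +kernel) (by norm_num)) (by decide +kernel)

theorem g3_307 : Good 3 307 ∧ orderOf ((3 : ℕ) : ZMod 307) = 34 :=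
  good_of [2, 17] (by norm_num) (by norm_num) (by norm_num) (by norm_num) (by norm_num) (by decide +kernel)
    (mem_of_factors _ (by decide +kernel) (by norm_num)) (by decide +kernel)

theorem g3_313 : Good 3 313 ∧ orderOf ((3 : ℕ) : ZMod 313) = 39 :=
  good_of [3, 13] (by norm_num) (by norm_num) (by norm_num) (by norm_num) (by norm_num) (by decide +kernel)
    (mem_of_factors _ (by decide +kernel) (by norm_num)) (by decide +kernel)

theorem g3_331 : Good 3 331 ∧ orderOf ((3 : ℕ) : ZMod 331) = 330 :=
  good_of [2, 3, 5, 11] (by norm_num) (by norm_num) (by norm_num) (by norm_num) (by norm_num) (by decide +kernel)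
    (mem_of_factors _ (by decide +kernel) (by norm_num)) (by decide +kernel)

theorem g3_431 : Good 3 431 ∧ orderOf ((3 : ℕ) : ZMod 431) = 43 :=
  good_of [43] (by norm_num) (by norm_num) (by norm_num) (by norm_num) (by norm_num) (by decide +kernel)
    (mem_of_factors _ (by decide +kernel) (by norm_num)) (by decide +kernel)

theorem g3_547 : Good 3 547 ∧ orderOf ((3 : ℕ) : ZMod 547) = 14 :=
  good_of [2, 7] (by norm_num) (by norm_num) (by norm_num) (by norm_num) (by norm_num) (by decide +kernel)
    (mem_of_factors _ (by decide +kernel) (by norm_num)) (by decide +kernel)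

theorem g3_757 : Good 3 757 ∧ orderOf ((3 : ℕ) : ZMod 757) = 9 :=
  good_of [3] (by norm_num) (by norm_num) (by norm_num) (by norm_num) (by norm_num) (by decide +kernel)
    (mem_of_factors _ (by decide +kernel) (by norm_num)) (by decide +kernel)

theorem g3_1093 : Good 3 1093 ∧ orderOf ((3 : ℕ) : ZMod 1093) = 7 :=
  good_of [7] (by norm_num) (by norm_num) (by norm_num) (by norm_num) (by norm_num) (by decide +kernel)
    (mem_of_factors _ (by decide +kernel) (by norm_num)) (by decide +kernel)

theorem g3_1181 : Good 3 1181 ∧ orderOf ((3 : ℕ) : ZMod 1181) = 20 :=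
  good_of [2, 5] (by norm_num) (by norm_num) (by norm_num) (by norm_num) (by norm_num) (by decide +kernel)
    (mem_of_factors _ (by decide +kernel) (by norm_num)) (by decide +kernel)

theorem g3_1597 : Good 3 1597 ∧ orderOf ((3 : ℕ) : ZMod 1597) = 19 :=
  good_of [19] (by norm_num) (by norm_num) (by norm_num) (by norm_num) (by norm_num) (by decide +kernel)
    (mem_of_factors _ (by decide +kernel) (by norm_num)) (by decide +kernel)

theorem g3_2801 : Good 3 2801 ∧ orderOf ((3 : ℕ) : ZMod 2801) = 2800 :=
  good_of [2, 5, 7] (by norm_num) (by norm_num) (by norm_num) (by norm_num) (by norm_num) (by decide +kernel)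
    (mem_of_factors _ (by decide +kernel) (by norm_num)) (by decide +kernel)

theorem g3_2851 : Good 3 2851 ∧ orderOf ((3 : ℕ) : ZMod 2851) = 38 :=
  good_of [2, 19] (by norm_num) (by norm_num) (by norm_num) (by norm_num) (by norm_num) (by decide +kernel)
    (mem_of_factors _ (by decide +kernel) (by norm_num)) (by decide +kernel)

theorem g3_3851 : Good 3 3851 ∧ orderOf ((3 : ℕ) : ZMod 3851) = 11 :=
  good_of [11] (by norm_num) (by norm_num) (by norm_num) (by norm_num) (by norm_num) (by decide +kernel)
    (mem_of_factors _ (by decide +kernel) (by norm_num)) (by decide +kernel)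

theorem g3_6481 : Good 3 6481 ∧ orderOf ((3 : ℕ) : ZMod 6481) = 24 :=
  good_of [2, 3] (by norm_num) (by norm_num) (by norm_num) (by norm_num) (by norm_num) (by decide +kernel)
    (mem_of_factors _ (by decide +kernel) (by norm_num)) (by decide +kernel)

theorem g3_19531 : Good 3 19531 ∧ orderOf ((3 : ℕ) : ZMod 19531) = 6510 :=
  good_of [2, 3, 5, 7, 31] (by norm_num) (by norm_num) (by norm_num) (by norm_num) (by norm_num) (by decide +kernel)
    (mem_of_factors _ (by decide +kernel) (by norm_num)) (by decide +kernel)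

theorem g5_3 : Good 5 3 ∧ orderOf ((5 : ℕ) : ZMod 3) = 2 :=
  good_of [2] (by norm_num) (by norm_num) (by norm_num) (by norm_num) (by norm_num) (by decide +kernel)
    (mem_of_factors _ (by decide +kernel) (by norm_num)) (by decide +kernel)

theorem g5_7 : Good 5 7 ∧ orderOf ((5 : ℕ) : ZMod 7) = 6 :=
  good_of [2, 3] (by norm_num) (by norm_num) (by norm_num) (by norm_num) (by norm_num) (by decide +kernel)
    (mem_of_factors _ (by decide +kernel) (by norm_num)) (by decide +kernel)

theorem g5_11 : Good 5 11 ∧ orderOf ((5 : ℕ) : ZMod 11) = 5 :=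
  good_of [5] (by norm_num) (by norm_num) (by norm_num) (by norm_num) (by norm_num) (by decide +kernel)
    (mem_of_factors _ (by decide +kernel) (by norm_num)) (by decide +kernel)

theorem g5_13 : Good 5 13 ∧ orderOf ((5 : ℕ) : ZMod 13) = 4 :=
  good_of [2] (by norm_num) (by norm_num) (by norm_num) (by norm_num) (by norm_num) (by decide +kernel)
    (mem_of_factors _ (by decide +kernel) (by norm_num)) (by decide +kernel)

theorem g5_17 : Good 5 17 ∧ orderOf ((5 : ℕ) : ZMod 17) = 16 :=
  good_of [2] (by norm_num) (by norm_num) (by norm_num) (by norm_num) (by norm_num) (by decide +kernel)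
    (mem_of_factors _ (by decide +kernel) (by norm_num)) (by decide +kernel)

theorem g5_19 : Good 5 19 ∧ orderOf ((5 : ℕ) : ZMod 19) = 9 :=
  good_of [3] (by norm_num) (by norm_num) (by norm_num) (by norm_num) (by norm_num) (by decide +kernel)
    (mem_of_factors _ (by decide +kernel) (by norm_num)) (by decide +kernel)

theorem g5_23 : Good 5 23 ∧ orderOf ((5 : ℕ) : ZMod 23) = 22 :=
  good_of [2, 11] (by norm_num) (by norm_num) (by norm_num) (by norm_num) (by norm_num) (by decide +kernel)
    (mem_of_factors _ (by decide +kernel) (by norm_num)) (by decide +kernel)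

theorem g5_29 : Good 5 29 ∧ orderOf ((5 : ℕ) : ZMod 29) = 14 :=
  good_of [2, 7] (by norm_num) (by norm_num) (by norm_num) (by norm_num) (by norm_num) (by decide +kernel)
    (mem_of_factors _ (by decide +kernel) (by norm_num)) (by decide +kernel)

theorem g5_31 : Good 5 31 ∧ orderOf ((5 : ℕ) : ZMod 31) = 3 :=
  good_of [3] (by norm_num) (by norm_num) (by norm_num) (by norm_num) (by norm_num) (by decide +kernel)
    (mem_of_factors _ (by decide +kernel) (by norm_num)) (by decide +kernel)

theorem g5_37 : Good 5 37 ∧ orderOf ((5 : ℕ) : ZMod 37) = 36 :=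
  good_of [2, 3] (by norm_num) (by norm_num) (by norm_num) (by norm_num) (by norm_num) (by decide +kernel)
    (mem_of_factors _ (by decide +kernel) (by norm_num)) (by decide +kernel)

theorem g5_41 : Good 5 41 ∧ orderOf ((5 : ℕ) : ZMod 41) = 20 :=
  good_of [2, 5] (by norm_num) (by norm_num) (by norm_num) (by norm_num) (by norm_num) (by decide +kernel)
    (mem_of_factors _ (by decide +kernel) (by norm_num)) (by decide +kernel)

theorem g5_43 : Good 5 43 ∧ orderOf ((5 : ℕ) : ZMod 43) = 42 :=
  good_of [2, 3, 7] (by norm_num) (by norm_num) (by norm_num) (by norm_num) (by norm_num) (by decide +kernel)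
    (mem_of_factors _ (by decide +kernel) (by norm_num)) (by decide +kernel)

theorem g5_61 : Good 5 61 ∧ orderOf ((5 : ℕ) : ZMod 61) = 30 :=
  good_of [2, 3, 5] (by norm_num) (by norm_num) (by norm_num) (by norm_num) (by norm_num) (by decide +kernel)
    (mem_of_factors _ (by decide +kernel) (by norm_num)) (by decide +kernel)

theorem g5_67 : Good 5 67 ∧ orderOf ((5 : ℕ) : ZMod 67) = 22 :=
  good_of [2, 11] (by norm_num) (by norm_num) (by norm_num) (by norm_num) (by norm_num) (by decide +kernel)
    (mem_of_factors _ (by decide +kernel) (by norm_num)) (by decide +kernel)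

theorem g5_71 : Good 5 71 ∧ orderOf ((5 : ℕ) : ZMod 71) = 5 :=
  good_of [5] (by norm_num) (by norm_num) (by norm_num) (by norm_num) (by norm_num) (by decide +kernel)
    (mem_of_factors _ (by decide +kernel) (by norm_num)) (by decide +kernel)

theorem g5_73 : Good 5 73 ∧ orderOf ((5 : ℕ) : ZMod 73) = 72 :=
  good_of [2, 3] (by norm_num) (by norm_num) (by norm_num) (by norm_num) (by norm_num) (by decide +kernel)
    (mem_of_factors _ (by decide +kernel) (by norm_num)) (by decide +kernel)

theorem g5_79 : Good 5 79 ∧ orderOf ((5 : ℕ) : ZMod 79) = 39 :=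
  good_of [3, 13] (by norm_num) (by norm_num) (by norm_num) (by norm_num) (by norm_num) (by decide +kernel)
    (mem_of_factors _ (by decide +kernel) (by norm_num)) (by decide +kernel)

theorem g5_89 : Good 5 89 ∧ orderOf ((5 : ℕ) : ZMod 89) = 44 :=
  good_of [2, 11] (by norm_num) (by norm_num) (by norm_num) (by norm_num) (by norm_num) (by decide +kernel)
    (mem_of_factors _ (by decide +kernel) (by norm_num)) (by decide +kernel)

theorem g5_101 : Good 5 101 ∧ orderOf ((5 : ℕ) : ZMod 101) = 25 :=
  good_of [5] (by norm_num) (by norm_num) (by norm_num) (by norm_num) (by norm_num) (by decide +kernel)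
    (mem_of_factors _ (by decide +kernel) (by norm_num)) (by decide +kernel)

theorem g5_109 : Good 5 109 ∧ orderOf ((5 : ℕ) : ZMod 109) = 27 :=
  good_of [3] (by norm_num) (by norm_num) (by norm_num) (by norm_num) (by norm_num) (by decide +kernel)
    (mem_of_factors _ (by decide +kernel) (by norm_num)) (by decide +kernel)

theorem g5_127 : Good 5 127 ∧ orderOf ((5 : ℕ) : ZMod 127) = 42 :=
  good_of [2, 3, 7] (by norm_num) (by norm_num) (by norm_num) (by norm_num) (by norm_num) (by decide +kernel)
    (mem_of_factors _ (by decide +kernel) (by norm_num)) (by decide +kernel)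

theorem g5_149 : Good 5 149 ∧ orderOf ((5 : ℕ) : ZMod 149) = 37 :=
  good_of [37] (by norm_num) (by norm_num) (by norm_num) (by norm_num) (by norm_num) (by decide +kernel)
    (mem_of_factors _ (by decide +kernel) (by norm_num)) (by decide +kernel)

theorem g5_157 : Good 5 157 ∧ orderOf ((5 : ℕ) : ZMod 157) = 156 :=
  good_of [2, 3, 13] (by norm_num) (by norm_num) (by norm_num) (by norm_num) (by norm_num) (by decide +kernel)
    (mem_of_factors _ (by decide +kernel) (by norm_num)) (by decide +kernel)

theorem g5_181 : Good 5 181 ∧ orderOf ((5 : ℕ) : ZMod 181) = 15 :=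
  good_of [3, 5] (by norm_num) (by norm_num) (by norm_num) (by norm_num) (by norm_num) (by decide +kernel)
    (mem_of_factors _ (by decide +kernel) (by norm_num)) (by decide +kernel)

theorem g5_191 : Good 5 191 ∧ orderOf ((5 : ℕ) : ZMod 191) = 19 :=
  good_of [19] (by norm_num) (by norm_num) (by norm_num) (by norm_num) (by norm_num) (by decide +kernel)
    (mem_of_factors _ (by decide +kernel) (by norm_num)) (by decide +kernel)

theorem g5_211 : Good 5 211 ∧ orderOf ((5 : ℕ) : ZMod 211) = 35 :=
  good_of [5, 7] (by norm_num) (by norm_num) (by norm_num) (by norm_num) (by norm_num) (by decide +kernel)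
    (mem_of_factors _ (by decide +kernel) (by norm_num)) (by decide +kernel)

theorem g5_241 : Good 5 241 ∧ orderOf ((5 : ℕ) : ZMod 241) = 40 :=
  good_of [2, 5] (by norm_num) (by norm_num) (by norm_num) (by norm_num) (by norm_num) (by decide +kernel)
    (mem_of_factors _ (by decide +kernel) (by norm_num)) (by decide +kernel)

theorem g5_257 : Good 5 257 ∧ orderOf ((5 : ℕ) : ZMod 257) = 256 :=
  good_of [2] (by norm_num) (by norm_num) (by norm_num) (by norm_num) (by norm_num) (by decide +kernel)
    (mem_of_factors _ (by decide +kernel) (by norm_num)) (by decide +kernel)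

theorem g5_307 : Good 5 307 ∧ orderOf ((5 : ℕ) : ZMod 307) = 306 :=
  good_of [2, 3, 17] (by norm_num) (by norm_num) (by norm_num) (by norm_num) (by norm_num) (by decide +kernel)
    (mem_of_factors _ (by decide +kernel) (by norm_num)) (by decide +kernel)

theorem g5_313 : Good 5 313 ∧ orderOf ((5 : ℕ) : ZMod 313) = 8 :=
  good_of [2] (by norm_num) (by norm_num) (by norm_num) (by norm_num) (by norm_num) (by decide +kernel)
    (mem_of_factors _ (by decide +kernel) (by norm_num)) (by decide +kernel)

theorem g5_331 : Good 5 331 ∧ orderOf ((5 : ℕ) : ZMod 331) = 165 :=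
  good_of [3, 5, 11] (by norm_num) (by norm_num) (by norm_num) (by norm_num) (by norm_num) (by decide +kernel)
    (mem_of_factors _ (by decide +kernel) (by norm_num)) (by decide +kernel)

theorem g5_449 : Good 5 449 ∧ orderOf ((5 : ℕ) : ZMod 449) = 14 :=
  good_of [2, 7] (by norm_num) (by norm_num) (by norm_num) (by norm_num) (by norm_num) (by decide +kernel)
    (mem_of_factors _ (by decide +kernel) (by norm_num)) (by decide +kernel)

theorem g5_521 : Good 5 521 ∧ orderOf ((5 : ℕ) : ZMod 521) = 10 :=
  good_of [2, 5] (by norm_num) (by norm_num) (by norm_num) (by norm_num) (by norm_num) (by decide +kernel)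
    (mem_of_factors _ (by decide +kernel) (by norm_num)) (by decide +kernel)

theorem g5_601 : Good 5 601 ∧ orderOf ((5 : ℕ) : ZMod 601) = 12 :=
  good_of [2, 3] (by norm_num) (by norm_num) (by norm_num) (by norm_num) (by norm_num) (by decide +kernel)
    (mem_of_factors _ (by decide +kernel) (by norm_num)) (by decide +kernel)

theorem g5_757 : Good 5 757 ∧ orderOf ((5 : ℕ) : ZMod 757) = 756 :=
  good_of [2, 3, 7] (by norm_num) (by norm_num) (by norm_num) (by norm_num) (by norm_num) (by decide +kernel)
    (mem_of_factors _ (by decide +kernel) (by norm_num)) (by decide +kernel)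

theorem g5_829 : Good 5 829 ∧ orderOf ((5 : ℕ) : ZMod 829) = 9 :=
  good_of [3] (by norm_num) (by norm_num) (by norm_num) (by norm_num) (by norm_num) (by decide +kernel)
    (mem_of_factors _ (by decide +kernel) (by norm_num)) (by decide +kernel)

theorem g5_1093 : Good 5 1093 ∧ orderOf ((5 : ℕ) : ZMod 1093) = 1092 :=
  good_of [2, 3, 7, 13] (by norm_num) (by norm_num) (by norm_num) (by norm_num) (by norm_num) (by decide +kernel)
    (mem_of_factors _ (by decide +kernel) (by norm_num)) (by decide +kernel)

theorem g5_1181 : Good 5 1181 ∧ orderOf ((5 : ℕ) : ZMod 1181) = 590 :=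
  good_of [2, 5, 59] (by norm_num) (by norm_num) (by norm_num) (by norm_num) (by norm_num) (by decide +kernel)
    (mem_of_factors _ (by decide +kernel) (by norm_num)) (by decide +kernel)

theorem g5_2801 : Good 5 2801 ∧ orderOf ((5 : ℕ) : ZMod 2801) = 350 :=
  good_of [2, 5, 7] (by norm_num) (by norm_num) (by norm_num) (by norm_num) (by norm_num) (by decide +kernel)
    (mem_of_factors _ (by decide +kernel) (by norm_num)) (by decide +kernel)

theorem g5_3851 : Good 5 3851 ∧ orderOf ((5 : ℕ) : ZMod 3851) = 1925 :=
  good_of [5, 7, 11] (by norm_num) (by norm_num) (by norm_num) (by norm_num) (by norm_num) (by decide +kernel)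
    (mem_of_factors _ (by decide +kernel) (by norm_num)) (by decide +kernel)

theorem g5_9161 : Good 5 9161 ∧ orderOf ((5 : ℕ) : ZMod 9161) = 20 :=
  good_of [2, 5] (by norm_num) (by norm_num) (by norm_num) (by norm_num) (by norm_num) (by decide +kernel)
    (mem_of_factors _ (by decide +kernel) (by norm_num)) (by decide +kernel)

theorem g5_19531 : Good 5 19531 ∧ orderOf ((5 : ℕ) : ZMod 19531) = 7 :=
  good_of [7] (by norm_num) (by norm_num) (by norm_num) (by norm_num) (by norm_num) (by decide +kernel)
    (mem_of_factors _ (by decide +kernel) (by norm_num)) (by decide +kernel)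

end Cfsg.Agent.H376.Num
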